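import Mathlib
import Cfsg.Prelude.Def_KGroupFacts
import Cfsg.Agent.Lib.MRec.WcAbs

/-!
# Automorphisms and double covers of perfect groups, square roots in normal 2-subgroups (helper7)
-/

set_option autoImplicit false

namespace H7.SM

open Subgroup Cfsg

section Aut
variable {E T : Type*} [Group E] [Group T]

theorem eq_of_central (hp : commutator E = ⊤) (α β : E →* E) (key : ∀ a, (β a)⁻¹ * α a ∈ center E) (a : E) :
    α a = β a := by
  let ψ : E →* center E := MonoidHom.mk' (fun a => ⟨_, key a⟩) fun a b => Subtype.ext (by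
    have := mem_center_iff.1 (key a) (β b)⁻¹
    simp only [map_mul, mul_inv_rev, coe_mul]
    calc _ = (β b)⁻¹ * ((β a)⁻¹ * α a) * α b := by group
      _ = _ := by rw [this]; group)
  have h1 : ψ a = 1 := (show commutator E ≤ ψ.ker from commutator_le.2 fun x _ y _ => by
    rw [MonoidHom.mem_ker, map_commutatorElement, commutatorElement_eq_one_iff_mul_comm]
    exact Subtype.ext (mem_center_iff.1 (key y) _)) (hp.ge (mem_top a))
  exact (inv_mul_eq_one.1 (congrArg Subtype.val h1)).symm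

theorem exists_autHom (hp : commutator E = ⊤) (ψ : E →* T) (hs : Function.Surjective ψ)
    (hk : ∀ x, ψ x = 1 ↔ x ∈ center E) :
    ∃ Φ : MulAut E →* MulAut T, Function.Injective Φ ∧ ∀ β x, Φ β (ψ x) = ψ (β x) := by
  have k : ∀ (β : MulAut E) x, ψ x = 1 → ψ (β x) = 1 := fun β x h =>
    (hk _).2 (mem_center_iff.2 fun y => by
      obtain ⟨y, rfl⟩ := β.surjective y
      rw [← map_mul, ← map_mul, mem_center_iff.1 ((hk x).1 h)])
  have ex : ∀ β : MulAut E, ∃ f : T →* T, ∀ x, f (ψ x) = ψ (β x) := fun β =>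
    ⟨ψ.liftOfRightInverse _ (Function.rightInverse_surjInv hs) ⟨ψ.comp β.toMonoidHom, k β⟩,
      fun x => ψ.liftOfRightInverse_comp_apply _ _ _ x⟩
  choose f hf using ex
  let F : MulAut E → MulAut T := fun β =>
    { toFun := f β
      invFun := f β⁻¹
      left_inv := fun y => by obtain ⟨x, rfl⟩ := hs y; rw [hf, hf]; simp
      right_inv := fun y => by obtain ⟨x, rfl⟩ := hs y; rw [hf, hf]; simp
      map_mul' := map_mul _ }
  refine ⟨MonoidHom.mk' F fun a b => MulEquiv.ext fun y => ?_, (injective_iff_map_eq_one _).2 fun β h => ?_, hf⟩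
  · obtain ⟨x, rfl⟩ := hs y
    change f _ _ = f _ (f _ _)
    rw [hf, hf, hf]; rfl
  · refine MulEquiv.ext (eq_of_central hp β.toMonoidHom (MonoidHom.id E) fun a => (hk _).1 ?_)
    have : f β (ψ a) = ψ a := DFunLike.congr_fun h (ψ a)
    rw [hf] at this
    simp [this]

theorem inner_of_out (hp : commutator E = ⊤) (ψ : E →* T) (hs : Function.Surjective ψ)
    (hk : ∀ x, ψ x = 1 ↔ x ∈ center E) (ho : Nat.card (Out T) = 1) (β : MulAut E) :
    ∃ e, ∀ x, β x = e * x * e⁻¹ := by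
  obtain ⟨Φ, hi, h⟩ := exists_autHom hp ψ hs hk
  obtain ⟨b, hb⟩ := (index_eq_one.1 ho).ge (mem_top (Φ β))
  obtain ⟨e, rfl⟩ := hs b
  obtain rfl : MulAut.conj e = β := hi (MulEquiv.ext fun y => by
    obtain ⟨y, rfl⟩ := hs y
    rw [← hb, h]; simp)
  exact ⟨e, fun x => rfl⟩

theorem inner_of_six [Finite E] (hp : commutator E = ⊤) (ψ : E →* T) (hs : Function.Surjective ψ)
    (hk : ∀ x, ψ x = 1 ↔ x ∈ center E) (ho : Nat.card (Out T) = 6) {a b : E} (ha : a ∈ center E)
    (hb : b ∈ center E) (h6 : 6 ≤ (MulAction.orbit (MulAut E) (a, b)).ncard) (β : MulAut E) (h1 : β a = a)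
    (h2 : β b = b) : ∃ e, ∀ x, β x = e * x * e⁻¹ := by
  obtain ⟨Φ, hi, h⟩ := exists_autHom hp ψ hs hk
  have : Finite T := Finite.of_surjective ψ hs
  have : Finite (MulAut T) := Finite.of_injective (fun f : MulAut T => (f : T → T)) DFunLike.coe_injective
  have : Finite (MulAut E) := Finite.of_injective Φ hi
  have le : Inn E ≤ MulAction.stabilizer (MulAut E) (a, b) := by
    rintro _ ⟨e, rfl⟩
    refine Prod.ext ?_ ?_
    · change e * a * e⁻¹ = a
      rw [mem_center_iff.1 ha, mul_inv_cancel_right]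
    · change e * b * e⁻¹ = b
      rw [mem_center_iff.1 hb, mul_inv_cancel_right]
  have c1 : Nat.card (Inn T) ≤ Nat.card (Inn E) := by
    rw [← card_map_of_injective hi]
    refine card_le_of_le ?_
    rintro _ ⟨y, rfl⟩
    obtain ⟨e, rfl⟩ := hs y
    refine ⟨_, ⟨e, rfl⟩, MulEquiv.ext fun y => ?_⟩
    obtain ⟨y, rfl⟩ := hs y
    rw [h]; simp
  have c2 := Nat.card_le_card_of_injective Φ hi
  have c3 := (Inn T).index_mul_card
  have c4 := (MulAction.stabilizer (MulAut E) (a, b)).index_mul_card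
  rw [MulAction.index_stabilizer] at c4
  rw [show (Inn T).index = 6 from ho] at c3
  have c5 := Nat.mul_le_mul_right (Nat.card (MulAction.stabilizer (MulAut E) (a, b))) h6
  obtain ⟨e, he⟩ := (eq_of_le_of_card_ge le (by omega)).ge (show β ∈ MulAction.stabilizer _ (a, b) from Prod.ext h1 h2)
  exact ⟨e, fun x => by rw [← he]; rfl⟩

/-- perfect central extensions by a group of maximal order are unique -/
theorem cover_unique {A B : Type*} {C : Type*} [Group A] [Group B] [Group C] [Finite A] [Finite B] (σ : A →* C) (τ : B →* C)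
    (s1 : Function.Surjective σ) (s2 : Function.Surjective τ) (k1 : σ.ker ≤ center A) (k2 : τ.ker ≤ center B)
    (p1 : commutator A = ⊤) (p2 : commutator B = ⊤) {n : ℕ} (c1 : Nat.card σ.ker = n) (c2 : Nat.card τ.ker = n)
    (h : ∀ (P : Subgroup (A × B)) (ρ : P →* C), IsStemExtension ρ → Nat.card ρ.ker ≤ n) : Nonempty (A ≃* B) := by
  let F : Subgroup (A × B) := MonoidHom.eqLocus (σ.comp (MonoidHom.fst A B)) (τ.comp (MonoidHom.snd A B))
  have mF : ∀ x : A × B, x ∈ F ↔ σ x.1 = τ x.2 := fun _ => Iff.rfl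
  have f1 : F.map (MonoidHom.fst A B) = ⊤ := eq_top_iff.2 fun a _ =>
    let ⟨b, hb⟩ := s2 (σ a); ⟨(a, b), hb.symm, rfl⟩
  have f2 : F.map (MonoidHom.snd A B) = ⊤ := eq_top_iff.2 fun b _ =>
    let ⟨a, ha⟩ := s1 (τ b); ⟨(a, b), ha, rfl⟩
  let P : Subgroup (A × B) := ⁅F, F⁆
  have sl : ∀ X : Subgroup (A × B), ⁅X, X⁆ ≤ X := fun X => commutator_le.2 fun x hx y hy =>
    mul_mem (mul_mem (mul_mem hx hy) (inv_mem hx)) (inv_mem hy)
  have PF : P ≤ F := sl F
  have g1 : P.map (MonoidHom.fst A B) = ⊤ := by rw [map_commutator, f1]; exact p1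
  have g2 : P.map (MonoidHom.snd A B) = ⊤ := by rw [map_commutator, f2]; exact p2
  have cen : ∀ x ∈ F, σ x.1 = 1 → ∀ y : A × B, y * x = x * y := fun x hx e y =>
    Prod.ext (mem_center_iff.1 (k1 e) _) (mem_center_iff.1 (k2 (((mF x).1 hx).symm.trans e)) _)
  have dec : ∀ x ∈ F, ∃ p ∈ P, ∃ c, (∀ y, y * c = c * y) ∧ x = p * c := fun x hx => by
    obtain ⟨p, hp, e⟩ := g1.ge (mem_top x.1)
    refine ⟨p, hp, p⁻¹ * x, cen _ (mul_mem (inv_mem (PF hp)) hx) ?_, by group⟩
    rw [Prod.fst_mul, Prod.fst_inv, show p.1 = x.1 from e, inv_mul_cancel, map_one]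
  have pP : ⁅P, P⁆ = P := le_antisymm (sl P)
    (commutator_le.2 fun x hx y hy => by
      obtain ⟨p, hp, c, hc, rfl⟩ := dec x hx
      obtain ⟨q, hq, d, hd, rfl⟩ := dec y hy
      convert commutator_mem_commutator hp hq using 1
      simp only [commutatorElement_def, mul_inv_rev]
      calc _ = p * (c * q) * (d * (c⁻¹ * p⁻¹)) * d⁻¹ * q⁻¹ := by group
        _ = p * q * (c * c⁻¹) * p⁻¹ * (d * d⁻¹) * q⁻¹ := by rw [← hc, ← hd]; group
        _ = _ := by group)
  let ρ : P →* C := σ.comp ((MonoidHom.fst A B).comp P.subtype)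
  have t1 : Function.Surjective ((MonoidHom.fst A B).comp P.subtype) := fun a =>
    let ⟨p, hp, e⟩ := g1.ge (mem_top a); ⟨⟨p, hp⟩, e⟩
  have t2 : Function.Surjective ((MonoidHom.snd A B).comp P.subtype) := fun a =>
    let ⟨p, hp, e⟩ := g2.ge (mem_top a); ⟨⟨p, hp⟩, e⟩
  have st : IsStemExtension ρ := ⟨s1.comp t1, fun x hx => mem_center_iff.2 fun y =>
    Subtype.ext (cen _ (PF x.2) hx _), by
      rw [show commutator P = ⊤ from map_injective P.subtype_injective (by
        rw [map_subtype_commutator, pP, ← MonoidHom.range_eq_map, range_subtype])]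
      exact le_top⟩
  have cd : ∀ {X : Type _} [Group X] (f : X →* C), Function.Surjective f → Nat.card X = Nat.card C * Nat.card f.ker :=
    fun f s => by rw [card_eq_card_quotient_mul_card_subgroup f.ker,
      Nat.card_congr (QuotientGroup.quotientKerEquivOfSurjective f s).toEquiv]
  have hP := (cd ρ st.1).trans_le (Nat.mul_le_mul_left _ (h P ρ st))
  have eA : Nat.card A = Nat.card C * n := by
    rw [card_eq_card_quotient_mul_card_subgroup σ.ker,
      Nat.card_congr (QuotientGroup.quotientKerEquivOfSurjective σ s1).toEquiv, c1]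
  have eB : Nat.card B = Nat.card C * n := by
    rw [card_eq_card_quotient_mul_card_subgroup τ.ker,
      Nat.card_congr (QuotientGroup.quotientKerEquivOfSurjective τ s2).toEquiv, c2]
  exact ⟨(MulEquiv.ofBijective _ (t1.bijective_of_nat_card_le (eA ▸ hP))).symm.trans
    (MulEquiv.ofBijective _ (t2.bijective_of_nat_card_le (eB ▸ hP)))⟩

end Aut

section Sq
variable {G : Type*} [Group G]

/-- the four-group -/
def V4 (a b x : G) : Prop := x = 1 ∨ x = a ∨ x = b ∨ x = a * b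

/-- a normal subgroup of the centraliser of `a` and `b` -/
structure NS (a b : G) (N : Subgroup G) : Prop where
  ca : ∀ n ∈ N, Commute n a
  cb : ∀ n ∈ N, Commute n b
  nm : ∀ c, Commute c a → Commute c b → ∀ n ∈ N, c * n * c⁻¹ ∈ N

/-- `b` has many square roots in a normal 2-subgroup of the centraliser of `a` and `b` -/
def Sq (a b : G) : Prop := ∃ N : Subgroup G, IsPGroup 2 N ∧ NS a b N ∧ 2 ^ 16 ≤ {w | w ∈ N ∧ w * w = b}.ncard

/-- the facts on the centraliser of `a` and `b` -/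
structure Gd (a b : G) : Prop where
  zc : ∀ c, c * c = 1 → (∀ x, Commute x a → Commute x b → Commute x c) → V4 a b c
  mn : ∀ N, NS a b N → (∀ n ∈ N, n * n = 1 → V4 a b n) → ∀ n ∈ N, V4 a b n
  ns : ¬ Sq b a

variable {H : Type*} [Group H] {a b : H}

theorem NS.symm {N : Subgroup H} (h : NS a b N) : NS b a N := ⟨h.cb, h.ca, fun c x y => h.nm c y x⟩

theorem NS.mul {N : Subgroup H} (h : NS a b N) : NS a (a * b) N :=
  ⟨h.ca, fun n hn => (h.ca n hn).mul_right (h.cb n hn), fun c x y => h.nm c x (by simpa using x.inv_right.mul_right y)⟩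

theorem V4.mul {x : H} (aa : a * a = 1) : V4 a (a * b) x ↔ V4 a b x := by
  unfold V4; rw [← mul_assoc, aa, one_mul]; tauto

theorem Gd.mul (aa : a * a = 1) (h : Gd a (a * b)) : Gd a b :=
  ⟨fun c cc hc => (V4.mul aa).1 (h.zc c cc fun x y z => hc x y (by simpa using y.inv_right.mul_right z)),
    fun N hN hi n hn => (V4.mul aa).1 (h.mn N hN.mul (fun m hm e => (V4.mul aa).2 (hi m hm e)) n hn),
    fun ⟨N, h1, h2, h3⟩ => h.ns ⟨N, h1, h2.symm.mul.symm, h3⟩⟩

section Map
variable {f : H →* G} (hf : Function.Injective f)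
include hf

theorem NS.map (hs : ∀ g, Commute g (f a) → Commute g (f b) → g ∈ f.range) {N : Subgroup H} (h : NS a b N) :
    NS (f a) (f b) (N.map f) := by
  refine ⟨?_, ?_, fun c h1 h2 => ?_⟩
  · rintro _ ⟨n, hn, rfl⟩; exact (h.ca n hn).map f
  · rintro _ ⟨n, hn, rfl⟩; exact (h.cb n hn).map f
  · obtain ⟨c, rfl⟩ := hs c h1 h2
    rintro _ ⟨n, hn, rfl⟩
    exact ⟨_, h.nm c (h1.of_map hf) (h2.of_map hf) n hn, by simp⟩

theorem NS.comap {N : Subgroup G} (h : NS (f a) (f b) N) : NS a b (N.comap f) :=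
  ⟨fun n hn => (h.ca _ hn).of_map hf, fun n hn => (h.cb _ hn).of_map hf, fun c h1 h2 n hn => by
    simpa using h.nm _ (h1.map f) (h2.map f) _ hn⟩

theorem sq_map (hs : ∀ g, Commute g (f a) → Commute g (f b) → g ∈ f.range) : Sq (f a) (f b) ↔ Sq a b := by
  have k : ∀ N : Subgroup H, {w | w ∈ N.map f ∧ w * w = f b}.ncard = {w | w ∈ N ∧ w * w = b}.ncard := fun N => by
    rw [← Set.ncard_image_of_injective _ hf]
    congr 1
    ext w
    exact ⟨by rintro ⟨⟨w, hw, rfl⟩, e⟩; exact ⟨w, ⟨hw, hf (by rw [map_mul, e])⟩, rfl⟩,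
      by rintro ⟨w, ⟨hw, rfl⟩, rfl⟩; exact ⟨⟨w, hw, rfl⟩, (map_mul f _ _).symm⟩⟩
  refine ⟨fun ⟨N, h1, h2, h3⟩ => ⟨_, h1.comap_of_injective f hf, h2.comap hf, ?_⟩,
    fun ⟨N, h1, h2, h3⟩ => ⟨_, h1.map f, h2.map hf hs, k N ▸ h3⟩⟩
  rwa [← k, map_comap_eq_self fun n hn => hs n (h2.ca n hn) (h2.cb n hn)]

theorem v4_map {x : H} : V4 (f a) (f b) (f x) ↔ V4 a b x := by
  unfold V4; rw [← map_mul, ← map_one f]; simp only [hf.eq_iff]

end Map

theorem Gd.of_map (e : H ≃* G) (h : Gd (e a) (e b)) : Gd a b := by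
  have hf : Function.Injective e.toMonoidHom := e.injective
  have hs := fun a b g (_ : Commute g (e.toMonoidHom a)) (_ : Commute g (e.toMonoidHom b)) =>
    (show g ∈ e.toMonoidHom.range from e.surjective g)
  refine ⟨fun c cc hc => (v4_map hf).1 (h.zc _ (by rw [← map_mul, cc, map_one]) fun x h1 h2 => ?_),
    fun N hN hi n hn => (v4_map hf).1 (h.mn _ (hN.map hf (hs a b)) ?_ _ ⟨n, hn, rfl⟩),
    fun q => h.ns ((sq_map hf (hs b a)).2 q)⟩
  · obtain ⟨x, rfl⟩ := e.surjective x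
    exact (hc x (h1.of_map hf) (h2.of_map hf)).map e.toMonoidHom
  · rintro _ ⟨m, hm, rfl⟩ q
    exact (v4_map hf).2 (hi m hm (hf (by rw [map_mul, q, map_one])))

theorem sq_equiv (e : H ≃* G) : Sq (e a) (e b) ↔ Sq a b :=
  sq_map (f := e.toMonoidHom) e.injective fun g _ _ => e.surjective g

theorem half [Finite G] {H : Subgroup G} {z x : G} (zc : ∀ w ∈ H, w * z = z * w) (hs : ∀ w ∈ H, w * w = 1 ∨ w * w = z)
    (hx : x ∈ H) (xx : x * x = z) (hc : ∀ w ∈ H, x * w = w * x ∨ x * w = w * x * z) :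
    Nat.card H ≤ 4 * {w | w ∈ H ∧ w * w = z}.ncard := by
  have c2 : Nat.card H ≤ 2 * Nat.card (H ⊓ centralizer {x} : Subgroup G) :=
    H75.WC.card_le_two_mul inf_le_left fun a ha b hb na nb => mem_inf.2 ⟨mul_mem (inv_mem ha) hb, by
      have e := fun c (h : c ∈ H) (n : c ∉ H ⊓ centralizer {x}) => (hc c h).resolve_left fun e =>
        n ⟨h, mem_centralizer_singleton_iff.2 e.symm⟩
      rw [mem_centralizer_singleton_iff, mul_assoc, inv_mul_eq_iff_eq_mul, ← mul_assoc, ← mul_assoc, ← mul_left_inj z,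
        ← e b hb nb, ← mul_left_inj b⁻¹, mul_inv_cancel_right, mul_assoc _ b, zc b hb, ← mul_assoc,
        mul_inv_cancel_right, mul_assoc _ a⁻¹, zc _ (inv_mem ha), ← mul_assoc, ← e a ha na, mul_inv_cancel_right]⟩
  have : ((H ⊓ centralizer {x} : Subgroup G) : Set G) ⊆ {w | w ∈ H ∧ w * w = z} ∪
      (fun w => w * x⁻¹) '' {w | w ∈ H ∧ w * w = z} := fun w hw =>
    (hs w hw.1).symm.imp (fun e => ⟨hw.1, e⟩) fun e => ⟨w * x, ⟨mul_mem hw.1 hx, by
      rw [mul_assoc, ← mul_assoc x, ← mem_centralizer_singleton_iff.1 hw.2, ← mul_assoc, ← mul_assoc, e, one_mul, xx]⟩,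
      mul_inv_cancel_right _ _⟩
  have h1 := (Set.ncard_le_ncard this).trans (Set.ncard_union_le _ _)
  rw [Set.ncard_image_of_injective _ (mul_left_injective x⁻¹)] at h1
  have : Nat.card (H ⊓ centralizer {x} : Subgroup G) = Set.ncard ((H ⊓ centralizer {x} : Subgroup G) : Set G) := rfl
  omega

end Sq

theorem eqns_Gen : True := by
  have := @Sq.eq_1.{0}
  have := @V4.eq_1.{0}
  trivial

end H7.SM
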