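import Mathlib
import Cfsg.Agent.Lib.StdM.Gen
import Cfsg.Agent.Lib.MRec.Two
import Cfsg.Agent.Lib.MonLoc.Ten

/-!
# The centraliser of a short involution inside the extraspecial group and of the central one (helper7)
-/

set_option autoImplicit false

namespace H7.SM

open Subgroup Cfsg H95 H95.Gr H16 H7.ML

theorem exists_st : ∃ (g : GG) (φ : centralizer ({zA} : Set GG) →* Spor.Co1) (cl : leechLattice → GG → Prop),
    St zA (g * zA * g⁻¹) (QQ ℝ) ((QQ ℝ).map (MulAut.conj g).toMonoidHom) φ cl := by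
  obtain ⟨g, a, b⟩ := exists_conj_z (F := ℝ)
  obtain ⟨φ, cl, S⟩ := exists_std mon a b
  exact ⟨g, φ, cl, S.st⟩

theorem ix32 {v : Lam} {x : GG} (h : cls v x) (hv : Mn v) : IX x :=
  let ⟨_, _, a⟩ := mon.conj_of_norm32 cls_t0 h norm_U hv; isConj_of_conj a

theorem conj_t0 {t : GG} (ht : IX t) (h : t ∈ QQ ℝ) : ∃ c, cj c zA = zA ∧ cj c t0 = t := by
  obtain ⟨s, r, rfl⟩ := ht.eq_qa h
  obtain ⟨c, hc, e⟩ := mon.conj_of_norm32 cls_t0 (cls_qa s r) norm_U (mn_rv r)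
  exact ⟨c, by rw [cj_apply, mem_cent_iff.1 hc, mul_inv_cancel_right], e⟩

theorem std_Z {w t : GG} (ht : IX t) (h : InQ w t) : ∃ g, cj g t0 = t ∧ cj g zA = w := by
  obtain ⟨g, rfl⟩ := ht.ex
  obtain ⟨c, h1, h2⟩ := trans_Z (ix_t0.conj g) ((inQ_z.2 t0_mem).conj g) h
  exact ⟨c * g, by rw [cj_mul, h1], by rw [cj_mul, h2]⟩

theorem tz : Commute t0 zA := es_QQ.central _ t0_mem

theorem mem_Q {c : GG} (hz : Commute c zA) (ht : Commute c t0)
    (h : ∀ x ∈ QQ ℝ, Commute x t0 → V4 t0 zA (c * x * c⁻¹ * x⁻¹)) : c ∈ QQ ℝ := by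
  obtain ⟨θ, -, hθ⟩ := mon.exists_theta cls_t0
  have h0 := hθ ⟨c, mem_cent_iff.2 hz, mem_cent_iff.2 ht⟩
  rw [stab_faithful (γ := θ _) fun x hd => ?_] at h0
  · exact (mon.ker _).1 h0.symm
  obtain ⟨a, ha⟩ := mon.ex_elt x
  have h1 := mon.smul _ _ h0 ha
  have c1 : Commute a t0 := (mon.commute_iff ha cls_t0).2 hd
  have c2 : Commute a zA := es_QQ.central _ (mon.mem ha)
  rcases h a (mon.mem ha) c1 with e | e | e | e <;> rw [mul_inv_eq_iff_eq_mul] at e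
  · exact Or.inl ((mon.eq_iff ha h1).2 (Or.inl (e.trans (one_mul _)))).symm
  · exact Or.inr ((mon.eq_iff (mon.add ha cls_t0) h1).2 (Or.inl (e.trans c1.eq.symm))).symm
  · exact Or.inl ((mon.eq_iff ha h1).2 (Or.inr (e.trans c2.eq.symm))).symm
  · exact Or.inr ((mon.eq_iff (mon.add ha cls_t0) h1).2 (Or.inr (e.trans (by
      rw [← (c1.mul_right c2).eq, mul_assoc])))).symm

theorem v4_of_cent {w : GG} (hw : w ∈ QQ ℝ) (h : ∀ x ∈ QQ ℝ, Commute x t0 → Commute x w) : V4 t0 zA w := by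
  have := es_QQ.mem_of_centralizes t0_mem t0_sq hw h
  rw [← tz.eq] at this
  unfold V4; tauto

theorem v4_comm {d x : GG} (hd : V4 t0 zA d) (hx : x ∈ QQ ℝ) (h : Commute x t0) : Commute x d := by
  have c : Commute x zA := es_QQ.central _ hx
  rcases hd with rfl | rfl | rfl | rfl
  exacts [Commute.one_right _, h, c, h.mul_right c]

theorem exists_out : ∃ y, IX y ∧ Commute y t0 ∧ Commute y zA ∧ y ∉ QQ ℝ := by
  obtain ⟨g, φ, cl, S⟩ := exists_st
  have hO := hOC 0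
  obtain ⟨-, -, -, -, y, -, hy, yQ, yy, ny, -⟩ := S.exists_y hO
  obtain ⟨i, hi, j, hj, ij⟩ := Finset.one_lt_card.1 (show 1 < (OC 0).card by rw [hO.2]; norm_num)
  obtain ⟨t, ht⟩ := S.M.ex_elt (lv44 i j)
  obtain ⟨c, c1, c2⟩ := conj_t0 (H31.MT.ix_of_cls S ht (Cg.refl _) (sqNorm_lv44 ij)) (S.M.mem ht)
  refine ⟨cj c⁻¹ y, ((H96.MRec.two_classes yy fun e => yQ (e ▸ one_mem _)).resolve_right ny).conj _, ?_, ?_, fun h => ?_⟩
  · rw [← cj_cj c t0, c2]
    exact Commute.map (S.comm_AA hO hy (mem_AA_of_sup S.M hO ht (sup_lv44 hi hj))) _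
  · rw [← cj_cj c zA, c1]
    exact Commute.map (S.comm_AA hO hy (z_mem_AA _ _)) _
  · have := (inQ_z.2 h).conj c
    rw [c1, cj_cj'] at this
    exact yQ (inQ_z.1 this)

theorem inf_Q {N : Subgroup GG} (hN : NS t0 zA N) (hi : ∀ n ∈ N, n * n = 1 → V4 t0 zA n) {w : GG} (hw : w ∈ N)
    (wQ : w ∈ QQ ℝ) : V4 t0 zA w := by
  obtain ⟨θ, θsurj, hθ⟩ := mon.exists_theta cls_t0
  let T := QQ ℝ ⊓ centralizer {t0} ⊓ centralizer {w}
  let J := closure {c : (centralizer ({zA} : Set GG) ⊓ HH : Subgroup GG) | IX c}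
  have nJ : J.Normal := by
    rw [show J = normalClosure {c : (centralizer ({zA} : Set GG) ⊓ HH : Subgroup GG) | IX c} from
      le_antisymm ((closure_le _).2 subset_normalClosure) (closure_mono ?_)]
    · infer_instance
    intro x hx
    obtain ⟨a, ha, e⟩ := Group.mem_conjugatesOfSet_iff.1 hx
    obtain ⟨c, rfl⟩ := isConj_iff.1 e
    exact IX.conj ha c
  have hJ : J ≤ (normalizer (T : Set GG)).subgroupOf _ := (closure_le _).2 fun c hc => by
    have cz : Commute (c : GG) zA := mem_cent_iff.1 c.2.1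
    have ct : Commute (c : GG) t0 := mem_cent_iff.1 c.2.2
    have nQ := fun x hx => H75.WC.conj_mem l3_QQ (g := (c : GG)⁻¹) (u := x) cz.inv_left hx
    have d : V4 t0 zA (w * (c : GG)⁻¹ * w⁻¹ * c) := by
      have m : w * (c : GG)⁻¹ * w⁻¹ * c ∈ QQ ℝ := by simpa [mul_assoc] using mul_mem wQ (nQ _ (inv_mem wQ))
      rcases es_QQ.sq_mem m with e | e
      · exact hi _ (by simpa [mul_assoc] using mul_mem hw (hN.nm _ ct.inv_left cz.inv_left _ (inv_mem hw))) e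
      · have i : IX (w * (c : GG)⁻¹ * w⁻¹) := by rw [IX.inv hc]; exact IX.conj hc w
        have := inQ_z.1 (e ▸ pow_two (w * (c : GG)⁻¹ * w⁻¹ * c) ▸ (inQ_sq i hc (by rw [pow_two, e]; exact iz_z)).2)
        have := es_QQ.commutator_eq wQ (inv_mem this)
        rw [inv_inv] at this
        unfold V4; tauto
    refine mem_normalizer_of_finite fun x hx => ⟨⟨H75.WC.conj_mem l3_QQ cz hx.1.1, mem_cent_iff.2 ?_⟩, mem_cent_iff.2 ?_⟩
    · exact ((ct.mul_left (mem_cent_iff.1 hx.1.2)).mul_left ct.inv_left).eq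
    · have := ((v4_comm d hx.1.1 (mem_cent_iff.1 hx.1.2)).inv_right.mul_right (mem_cent_iff.1 hx.2)).map (cj c)
      simpa [mul_assoc] using this.eq
  have := isSimple_Co2
  obtain ⟨y, y1, y2, y3, y4⟩ := exists_out
  have h3 : J.map θ = ⊤ := (Normal.eq_bot_or_eq_top (Normal.map nJ θ θsurj)).resolve_left fun e => by
    have := hθ ⟨y, mem_cent_iff.2 y3, mem_cent_iff.2 y2⟩
    rw [mem_bot.1 (e.le (mem_map_of_mem θ (subset_closure y1)))] at this
    exact y4 ((mon.ker _).1 this.symm)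
  have key : ∀ {v x y}, cls v x → cls v y → x ∈ T → y ∈ T := fun hx hy hN => by
    rcases (mon.eq_iff hx hy).1 (Cg.refl _) with e | e <;> rw [e]
    exacts [hN, mul_mem hN ⟨⟨es_QQ.mem, z_mem⟩, mem_cent_iff.2 (es_QQ.central _ wQ).symm⟩]
  let L : AddSubgroup Lam :=
    { carrier := {v | ∀ x, cls v x → x ∈ T}
      zero_mem' := fun x hx => key mon.cls_zero hx (one_mem _)
      add_mem' := fun {v w} hv hw x hx => by
        obtain ⟨a, ha⟩ := mon.ex_elt v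
        obtain ⟨b, hb⟩ := mon.ex_elt w
        exact key (mon.add ha hb) hx (mul_mem (hv a ha) (hw b hb))
      neg_mem' := fun {v} hv x hx => hv x (mon.congr hx (cg_neg v).symm) }
  have hs : ∀ g : Co0, g • H16.vU = H16.vU → ∀ v ∈ L, g • v ∈ L := fun g hg v hv x hx => by
    obtain ⟨c, hc, e⟩ := h3.ge (mem_top ⟨g, hg⟩)
    obtain ⟨a, ha⟩ := mon.ex_elt v
    exact key (mon.smul ⟨c, c.2.1⟩ g (by rw [← hθ, e]) ha) hx (conj_mem_of_normalizer (hJ hc) (hv a ha))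
  have ex : ∃ v, Mn v ∧ dt H16.vU v = 0 ∧ v ∈ L := by
    obtain ⟨a, ha⟩ := mon.ex_elt (vB (some 1) (some 2))
    obtain ⟨b, hb⟩ := mon.ex_elt (vB (some 2) (some 3))
    have k : ∀ {v x}, cls v x → Mn v → dt H16.vU v = 0 → x * w = w * x → ∃ v, Mn v ∧ dt H16.vU v = 0 ∧ v ∈ L :=
      fun {v x} hx h1 h2 h3 => ⟨v, h1, h2, fun y hy => key hx hy ⟨⟨mon.mem hx, mem_cent_iff.2
        ((mon.commute_iff hx cls_t0).2 (by rw [dotInt_comm]; exact ⟨0, h2⟩))⟩, mem_cent_iff.2 h3⟩⟩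
    by_cases h1 : a * w = w * a
    · exact k ha (by decide +kernel) (by decide +kernel) h1
    by_cases h2 : b * w = w * b
    · exact k hb (by decide +kernel) (by decide +kernel) h2
    exact k (mon.add ha hb) (by decide +kernel) (by decide +kernel)
      (es_QQ.mul_comm_of_ne wQ (mon.mem ha) (mon.mem hb) h1 h2)
  obtain ⟨u, u1, u2, u3⟩ := ex
  refine v4_of_cent wQ fun x hx h => ?_
  obtain ⟨v, hv⟩ := mon.ex_cls x hx
  refine mem_cent_iff.1 (perp_gen L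
    (fun v x hx => key (mon.congr mon.cls_zero (cg_iff.2 ⟨v, by simp⟩).symm) hx (one_mem _))
    (fun x hx => key cls_t0 hx ⟨⟨t0_mem, mem_cent_iff.2 rfl⟩, mem_cent_iff.2 (hN.ca w hw).symm⟩) hs (fun v hv e => ?_)
    (by rw [dt_comm]; exact (mon.commute_iff hv cls_t0).1 h) x hv).2
  obtain ⟨g, hg, rfl⟩ := co2_trans (x := u) u1 hv (u2.trans e.symm)
  exact hs g hg _ u3

theorem le_Q {N : Subgroup GG} (hN : NS zA t0 N) (hp : IsPGroup 2 N) : N ≤ QQ ℝ := by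
  obtain ⟨θ, θsurj, hθ⟩ := mon.exists_theta cls_t0
  have hn : (N.subgroupOf (centralizer ({zA} : Set GG) ⊓ HH)).Normal :=
    ⟨fun k hk c => hN.nm c (mem_cent_iff.1 c.2.1) (mem_cent_iff.1 c.2.2) k hk⟩
  have := isSimple_Co2
  have : Fact (Nat.Prime 2) := ⟨Nat.prime_two⟩
  intro n h
  rcases Normal.eq_bot_or_eq_top (Normal.map hn θ θsurj) with e | e
  · have := hθ ⟨n, mem_cent_iff.2 (hN.ca n h), mem_cent_iff.2 (hN.cb n h)⟩
    rw [mem_bot.1 (e.le (mem_map_of_mem θ h))] at this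
    exact (mon.ker _).1 this.symm
  obtain ⟨k, hk⟩ := IsPGroup.iff_card.1 ((hp.comap_subtype (K := centralizer ({zA} : Set GG) ⊓ HH)).map θ)
  have : Nat.card (Stab H16.vU) = 2 ^ k := by rw [← hk, ← card_top]; exact congrArg (fun K : Subgroup _ => Nat.card K) e.symm
  rw [card_Co2] at this
  have := (Nat.prime_three.dvd_of_dvd_pow (this ▸ (by norm_num : 3 ∣ 42305421312000)))
  omega

theorem gd_z : Gd t0 zA := by
  refine ⟨fun c _ h => v4_of_cent (mem_Q (h _ tz.symm rfl).symm (h _ rfl tz).symm fun x hx e => Or.inl ?_)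
    fun x hx e => h x e (es_QQ.central _ hx), fun N hN hi n hn => inf_Q hN hi hn (mem_Q (hN.cb n hn) (hN.ca n hn)
      fun x hx e => inf_Q hN hi ?_ (mul_mem (H75.WC.conj_mem l3_QQ (hN.cb n hn) hx) (inv_mem hx))),
    fun ⟨N, h1, h2, h3⟩ => ?_⟩
  · rw [← (h x e (es_QQ.central _ hx)).eq]; group
  · simpa [mul_assoc] using mul_mem hn (hN.nm x e (es_QQ.central _ hx) _ (inv_mem hn))
  · rw [show {w | w ∈ N ∧ w * w = t0} = ∅ from Set.eq_empty_of_forall_notMem fun w ⟨a, b⟩ =>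
      (es_QQ.sq_mem (le_Q h2 h1 a)).elim (fun e => ix_t0.ne_one (b ▸ e)) fun e => not_iz ix_t0 (b ▸ e ▸ iz_z)] at h3
    simp at h3

theorem sq_z : Sq t0 zA := by
  obtain ⟨-, -, x, -, -, -, -, -, a5, a6, -, a8⟩ := exists_s0
  have h2 := es_QQ.card_centralizer t0_mem ix_t0.ne_one fun e => not_iz ix_t0 (e ▸ iz_z)
  have := half (H := QQ ℝ ⊓ HH) (fun w hw => es_QQ.central w hw.1) (fun w hw => es_QQ.sq_mem hw.1) ⟨a5, a6⟩ a8
    fun w hw => es_QQ.comm _ a5 _ hw.1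
  rw [card_QQ] at h2
  exact ⟨QQ ℝ ⊓ HH, es_QQ.isPGroup.to_inf_left, ⟨fun n hn => mem_cent_iff.1 hn.2, fun n hn => es_QQ.central n hn.1,
    fun c h1 h2 n hn => ⟨H75.WC.conj_mem l3_QQ h2 hn.1, mem_cent_iff.2
      ((h1.mul_left (mem_cent_iff.1 hn.2)).mul_left h1.inv_left).eq⟩⟩,
    le_of_mul_le_mul_left (le_trans (by rw [← mul_le_mul_iff_left₀ two_pos, h2]; norm_num) this) four_pos⟩

end H7.SM
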