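import Mathlib
import Cfsg.Agent.Lib.StdM.TyZ
import Cfsg.Agent.Lib.MRec.Wc

/-!
# A short involution that commutes with a central involution and lies outside its extraspecial group (helper7)
-/

set_option autoImplicit false

namespace H7.SM

open Subgroup Cfsg H95 H95.Gr H16 H7.ML QuadraticMap

theorem irr {V : Type*} [AddCommGroup V] [Module (ZMod 2) V] [Finite V] {q : QuadraticForm (ZMod 2) V}
    (hq : H12.Nondeg q) {u f : V} (h : H12.IsHyp q u f) (hn : Module.finrank (ZMod 2) V = 10)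
    {F : Submodule (ZMod 2) V} (hF : ∀ a ∈ H12.perp q u f, ∀ b ∈ H12.perp q u f, ∀ x ∈ F, (H12.eich q a b).1 x ∈ F)
    {v : V} (h1 : v ∈ F) (h2 : v ∈ H12.perp q u f) (h0 : v ≠ 0) : H12.perp q u f ≤ F := by
  have d := h.finrank_perp
  let W := H12.perp q u f
  let p := q.restrict W
  have np : H12.Nondeg p := h.nondeg_perp hq
  have pp : ∀ a b : W, polar p a b = polar q a b := fun _ _ => rfl
  have k : ∀ v : W, v.1 ∈ F → v ≠ 0 → ∀ a : W, q a = 0 → polar q v a = 0 → a.1 ∈ F := fun v hv v0 a qa va => by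
    by_cases e : ∃ c : ZMod 2, v = c • a
    · obtain ⟨c, rfl⟩ := e
      rcases zmod2_eq c with rfl | rfl
      · exact absurd (zero_smul _ _) v0
      · simpa using hv
    obtain ⟨b, b1, b2⟩ := np.exists_orth_B_eq (u := a) (v := v) (fun c f => e ⟨c, f⟩) 1
    have := hF a a.2 b b.2 v hv
    rw [H12.eich_apply_of_orth_left qa b1 va, show polar q v b = 1 from b2, one_smul] at this
    exact (F.add_mem_iff_right hv).1 this
  have sg : ∀ a b : W, ∃ c : W, c ≠ 0 ∧ q c = 0 ∧ polar q a c = 0 ∧ polar q b c = 0 := fun a b => by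
    let K := LinearMap.ker ((polarBilin p a).prod (polarBilin p b))
    have := LinearMap.finrank_range_add_finrank_ker ((polarBilin p a).prod (polarBilin p b))
    have := Submodule.finrank_le (LinearMap.range ((polarBilin p a).prod (polarBilin p b)))
    obtain ⟨c, c0, c1⟩ := H12.exists_sing (p.restrict K) (by
      simp only [Module.finrank_prod, Module.finrank_self] at this; simp only [K, W] at *; omega)
    exact ⟨c, fun e => c0 (Subtype.ext e), c1, congrArg Prod.fst c.2, congrArg Prod.snd c.2⟩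
  have v0 : (⟨v, h2⟩ : W) ≠ 0 := fun e => h0 (congrArg Subtype.val e)
  have all : ∀ a : W, q a = 0 → a.1 ∈ F := fun a qa => by
    obtain ⟨c, c0, c1, c2, c3⟩ := sg ⟨v, h2⟩ a
    exact k c (k _ h1 v0 c c1 c2) c0 a qa (by rw [polar_comm, c3])
  obtain ⟨e, g, hg⟩ := np.exists_hyp_of_three_le (by simp only [W]; omega)
  intro x hx
  obtain ⟨a, b, c, a1, b1, c1, e, -⟩ := hg.sum_sing ⟨x, hx⟩
  rw [show x = a + b + c from congrArg Subtype.val e]
  exact add_mem (add_mem (all a a1) (all b b1)) (all c c1)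

theorem exists_fix {N V : Type*} [Group N] [AddCommGroup V] [Module (ZMod 2) V] [Finite V] (hp : IsPGroup 2 N)
    (σ : N →* V ≃ₗ[ZMod 2] V) {W : Submodule (ZMod 2) V} (hW : ∀ n, ∀ x ∈ W, σ n x ∈ W)
    (hd : Module.finrank (ZMod 2) W ≠ 0) : ∃ v ∈ W, v ≠ 0 ∧ ∀ n, σ n v = v := by
  let _ : MulAction N W :=
    { smul := fun n x => ⟨σ n x, hW n x x.2⟩
      one_smul := fun x => Subtype.ext (by change σ 1 x = x; simp)
      mul_smul := fun a b x => Subtype.ext (by change σ (a * b) x = σ a (σ b x); simp) }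
  have : Fact (Nat.Prime 2) := ⟨Nat.prime_two⟩
  obtain ⟨v, hv, v0⟩ := hp.exists_fixed_point_of_prime_dvd_card_of_fixed_point W (a := 0) (by
    rw [Module.natCard_eq_pow_finrank (K := ZMod 2), Nat.card_zmod]
    exact dvd_pow_self 2 hd) fun n => Subtype.ext (map_zero (σ n))
  exact ⟨v, v.2, fun e => v0 (Subtype.ext e.symm), fun n => congrArg Subtype.val (hv n)⟩

/-- squares in a normal subgroup without new involutions -/
def Y1 {G : Type*} [Group G] (a b : G) : Prop :=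
  ∀ N, NS a b N → (∀ n ∈ N, n * n = 1 → V4 a b n) → ∀ n ∈ N, n * n = 1 ∨ n * n = b

theorem Y1.of_map {G H : Type*} [Group G] [Group H] {a b : H} (e : H ≃* G) (h : Y1 (e a) (e b)) : Y1 a b := by
  have hf : Function.Injective e.toMonoidHom := e.injective
  intro N hN hi n hn
  have := h _ (hN.map hf fun g _ _ => e.surjective g) (by
    rintro _ ⟨m, hm, rfl⟩ q
    exact (v4_map hf).2 (hi m hm (hf (by rw [map_mul, q, map_one])))) _ ⟨n, hn, rfl⟩
  rw [← map_mul] at this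
  exact this.imp (fun x => hf (x.trans (map_one _).symm)) fun x => hf x

theorem sum_le {G : Type*} [Group G] [Finite G] (P : Subgroup G) (A : Finset G) :
    ∑ a ∈ A, {w | w ∈ P ∧ w * w = a}.ncard ≤ Nat.card P := by
  classical
  have := Fintype.ofFinite G
  have := Finset.sum_card_fiberwise_eq_card_filter (Finset.univ.filter (· ∈ P)) A fun w => w * w
  calc _ = _ := Finset.sum_congr rfl fun a _ => by rw [← Set.ncard_coe_finset]; congr 1; ext; simp
    _ = _ := this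
    _ ≤ _ := (Finset.card_filter_le _ _).trans_eq (by rw [Nat.card_eq_fintype_card, Fintype.card_subtype])

section
variable {g : GG} {φ : centralizer ({zA} : Set GG) →* Spor.Co1} {cl : leechLattice → GG → Prop}
  (S : St zA (g * zA * g⁻¹) (QQ ℝ) ((QQ ℝ).map (MulAut.conj g).toMonoidHom) φ cl)
include S

theorem ys {t y : GG} (ht : IX t) (hy : IZ y) (c : Commute t y) (n : ¬InQ y t) :
    ∃ k, cj k y = zA ∧ cj k t ∈ AA S.M (hOC 0).1 := by
  suffices ∃ k, cj k y ∈ AA S.M (hOC 0).1 ∧ cj k t ∈ AA S.M (hOC 0).1 by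
    obtain ⟨k, h1, h2⟩ := this
    obtain ⟨m, hm, e⟩ := S.trans_AA (hOC 0) h1 (hy.conj k)
    exact ⟨m⁻¹ * k, by rw [cj_mul, ← e]; exact cj_cj _ _, by
      rw [cj_mul]; simpa using conj_mem_of_normalizer' hm h2⟩
  suffices ∃ w, InQ w t ∧ InQ w y ∧ w ≠ y by
    obtain ⟨w, h1, h2, h3⟩ := this
    obtain ⟨k, rfl⟩ := h1.iz.ex
    obtain ⟨t, rfl⟩ := (cj k).surjective t
    obtain ⟨y, rfl⟩ := (cj k).surjective y
    rw [inQ_cj] at h1 h2 n
    rw [ix_cj] at ht
    rw [iz_cj] at hy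
    obtain ⟨v, hv, nv⟩ := S.M.type_of_invol (inQ_z.1 h2) hy.ne_one (fun e => h3 (by rw [e])) hy.sq
    obtain ⟨d, hd, e⟩ := S.M.conj_of_norm64 hv S.hs ((S.isConj_iff hv nv).1 hy) (sqNorm_e8 _)
    have i1 : IX (cj d t) := ht.conj d
    obtain ⟨x, hx, nx⟩ := S.M.type_of_invol (H75.WC.conj_mem l3_QQ (mem_cent_iff.1 hd) (inQ_z.1 h1)) i1.ne_one
      (fun e => not_iz i1 (e.symm ▸ iz_z : IZ (d * t * d⁻¹))) i1.sq
    replace nx := nx.resolve_right fun a => not_iz i1 ((S.isConj_iff hx (Or.inr a)).2 a)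
    have ev := (S.M.commute_iff S.hs hx).1 (e ▸ ((c.of_map (cj k).injective).map (cj d)).symm.eq)
    rw [dot_e8] at ev
    obtain ⟨O, hO, cg⟩ := ((mem_leech_iff' _).1 x.2).resolve_right fun ⟨O, _, h⟩ => by
      have := h.1 none; omega
    have := cg.four_mul_card_le
    have oct : O ∈ octads := ⟨hO, by
      rcases card_of_mem_code hO with a | a | a | a | a
      · rw [Finset.card_eq_zero.1 a] at cg
        have := inQ_iff.2 (S.mem_E_of_cong hx cg).2
        rw [cj_apply, ← e] at this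
        exact absurd (inQ_cj.1 this) n
      all_goals omega⟩
    obtain ⟨s, -, -, es⟩ := shape_oct cg (by rw [oct.2, nx]; rfl) (by rw [oct.2]; norm_num)
    obtain ⟨σ, hσ, eσ⟩ := H15.M24_trans_octads oct (hOC 0)
    obtain ⟨b, hb⟩ := S.M.exists_lift (mono σ hσ ∅ empty_mem_code)
    have cA := fun a ha => conj_AA S.M oct.1 (hOC 0).1 hb (mono_mul_eps hσ _ _ _ eσ) (a := a) ha
    refine ⟨b * d * k⁻¹, ?_, ?_⟩ <;> rw [cj_mul, cj_cj, cj_mul]
    · exact cA _ (by rw [cj_apply, e]; exact S.s_mem_AA oct)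
    · exact cA _ (mem_AA_of_sup S.M oct hx fun i hi => by rw [es]; simp [H16.sgn, rep_zero, ind_apply, hi])
  obtain ⟨k, rfl⟩ := hy.ex
  obtain ⟨t, rfl⟩ := (cj k).surjective t
  rw [inQ_cj, inQ_z] at n
  rw [ix_cj] at ht
  replace c := c.of_map (cj k).injective
  obtain ⟨γ, hγ, h1, h2⟩ := H75.WC.exists_lift_invol mon ⟨t, mem_cent_iff.2 c⟩ ht.sq n
  obtain ⟨x, ⟨v, hv⟩, nx⟩ := H75.WC.exists_sing h1 h2
  obtain ⟨u, hu⟩ := mon.ex_elt v
  have c1 := mon.congr (H75.WC.cls_cm mon _ hγ hu) hv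
  have iz := iz_of_cls c1 nx
  refine ⟨cj k _, InQ.conj ?_ k, ((inQ_z.2 (mon.mem c1)).symm iz).conj k, fun e =>
    Mon.not_cg_zero (Or.inr nx) ((mon.cg_zero_iff c1).2 (Or.inr ((cj k).injective e)))⟩
  have e : H75.WC.cm t u = t * cj u t := by rw [H75.WC.cm, ht.inv, cj_apply]; group
  rw [e] at iz ⊢
  exact inQ_of_mul ht (ht.conj u) iz

variable {t : GG} (tA : t ∈ AA S.M (hOC 0).1) (tQ : t ∉ QQ ℝ)
include tA tQ

theorem mem_T {x : GG} : x ∈ TT S.M (hOC 0).1 ↔ x ∈ QQ ℝ ∧ Commute x t := by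
  refine ⟨fun h => ⟨TT_le _ _ h, tA x h⟩, fun ⟨h1, h2⟩ => ?_⟩
  obtain ⟨v, hv⟩ := S.M.ex_cls x h1
  have := S.M.smul _ _ ((S.AA_cases (hOC 0) tA).resolve_left tQ) hv
  exact ⟨v, hv, cg_of_cls S.M this (by rwa [← h2.eq, mul_inv_cancel_right])⟩

theorem conj_T {c x : GG} (h1 : Commute c t) (h2 : Commute c zA) (hx : x ∈ TT S.M (hOC 0).1) :
    c * x * c⁻¹ ∈ TT S.M (hOC 0).1 := by
  rw [mem_T S tA tQ] at hx ⊢
  exact ⟨H75.WC.conj_mem l3_QQ h2 hx.1, (h1.mul_left hx.2).mul_left h1.inv_left⟩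

theorem norm_A {c : GG} (h1 : Commute c t) (h2 : Commute c zA) : c ∈ normalizer (AA S.M (hOC 0).1 : Set GG) :=
  mem_normalizer_cent (mem_normalizer_of_finite fun _ => conj_T S tA tQ h1 h2)

theorem exists_H : ∃ H : Subgroup GG, IsPGroup 2 H ∧ NS t zA H ∧ H ≤ centralizer (AA S.M (hOC 0).1 : Set GG) ∧
    2 ^ 18 ≤ Nat.card H ∧ (∀ w ∈ H, w * w = 1 ∨ w * w = zA) ∧ 2 ^ 16 ≤ {w | w ∈ H ∧ w * w = zA}.ncard := by
  have tt := S.sq_AA (hOC 0) tA
  have ti := inv_eq_of_mul_eq_one_right tt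
  have ct : ∀ x ∈ TT S.M (hOC 0).1, Commute x t := fun x hx => tA x hx
  have tz : Commute t zA := (ct _ (z_mem_TT _ _)).symm
  let H : Subgroup GG :=
    { carrier := {w | ∃ x ∈ TT S.M (hOC 0).1, w = x ∨ w = x * t}
      one_mem' := ⟨1, one_mem _, Or.inl rfl⟩
      mul_mem' := by
        rintro _ _ ⟨x, hx, rfl | rfl⟩ ⟨y, hy, rfl | rfl⟩ <;> refine ⟨_, mul_mem hx hy, ?_⟩
        · exact Or.inl rfl
        · exact Or.inr (mul_assoc _ _ _).symm
        · exact Or.inr ((ct _ hy).symm.right_comm _)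
        · exact Or.inl (by rw [(ct y hy).symm.mul_mul_mul_comm, tt, mul_one])
      inv_mem' := by
        rintro _ ⟨x, hx, rfl | rfl⟩
        exacts [⟨_, inv_mem hx, Or.inl rfl⟩, ⟨_, inv_mem hx, Or.inr (by rw [(ct x hx).eq, mul_inv_rev, ti])⟩] }
  have sq : ∀ w ∈ H, w * w = 1 ∨ w * w = zA := by
    rintro _ ⟨x, hx, rfl | rfl⟩
    · exact es_QQ.sq_mem (TT_le _ _ hx)
    · rw [(ct x hx).symm.mul_mul_mul_comm, tt, mul_one]; exact es_QQ.sq_mem (TT_le _ _ hx)
  have cA : H ≤ centralizer (AA S.M (hOC 0).1 : Set GG) := by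
    rintro _ ⟨x, hx, rfl | rfl⟩
    · exact fun a ha => (ha _ hx).symm
    · exact mul_mem (fun a ha => (ha _ hx).symm) fun a ha => S.comm_AA (hOC 0) ha tA
  have c1 := two_mul_card_le (H := TT S.M (hOC 0).1) (K := H) (fun x hx => ⟨x, hx, Or.inl rfl⟩)
    ⟨1, one_mem _, Or.inr (one_mul _).symm⟩ fun h => tQ (TT_le _ _ h)
  rw [card_TT S.M (hOC 0)] at c1
  obtain ⟨x, hx, xx⟩ : ∃ x ∈ TT S.M (hOC 0).1, x * x = zA := by
    by_contra! h
    have s := fun x hx => (es_QQ.sq_mem (TT_le _ _ hx)).resolve_right (h x hx)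
    have := card_le_of_le (show TT S.M (hOC 0).1 ≤ AA S.M (hOC 0).1 from fun x hx y hy => by
      have := inv_eq_of_mul_eq_one_right (s _ (mul_mem hx hy))
      rwa [mul_inv_rev, inv_eq_of_mul_eq_one_right (s _ hx), inv_eq_of_mul_eq_one_right (s _ hy)] at this)
    rw [card_TT S.M (hOC 0), S.card_AA (hOC 0)] at this
    omega
  have := half (H := H) (fun w hw => (cA hw _ (z_mem_AA _ _)).symm) sq ⟨x, hx, Or.inl rfl⟩ xx (by
    rintro _ ⟨y, hy, rfl | rfl⟩
    · exact es_QQ.comm _ (TT_le _ _ hx) _ (TT_le _ _ hy)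
    · refine (es_QQ.comm _ (TT_le _ _ hx) _ (TT_le _ _ hy)).imp (fun e => ?_) fun e => ?_ <;>
        rw [← mul_assoc, e, (ct x hx).symm.right_comm]
      exact tz.symm.right_comm _)
  refine ⟨H, isPGroup_of_pow 2 fun w hw => ?_, ⟨fun w hw => (cA hw _ tA).symm, fun w hw => (cA hw _ (z_mem_AA _ _)).symm,
    ?_⟩, cA, c1, sq, le_of_mul_le_mul_left (c1.trans this) four_pos⟩
  · rw [show w ^ 2 ^ 2 = w * w * (w * w) by rw [pow_two 2, pow_mul, pow_two, pow_two]]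
    rcases sq w hw with e | e <;> rw [e]
    exacts [mul_one _, es_QQ.sq]
  · rintro c h1 h2 _ ⟨x, hx, rfl | rfl⟩ <;> refine ⟨_, conj_T S tA tQ h1 h2 hx, ?_⟩
    · exact Or.inl rfl
    · exact Or.inr (by rw [← mul_assoc, h1.inv_left.symm.right_comm])

section
variable {e : (Fin 10 → ZMod 2) → GG}
  {ρ : normalizer (AA S.M (hOC 0).1 : Set GG) →* ((Fin 10 → ZMod 2) ≃ₗ[ZMod 2] (Fin 10 → ZMod 2))}
  (C : Co (AA S.M (hOC 0).1) 10 e ρ) {q : QuadraticForm (ZMod 2) (Fin 10 → ZMod 2)}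
  (hq : ∀ v, q v = qq zA (e v)) {u f : Fin 10 → ZMod 2} (hu : e u = zA) (hf : e f = t * zA)
include C hq hu hf

theorem hyp (ht : IX t) : H12.IsHyp q u f := by
  have := S.qq_mul_z_out (hOC 0) tA tQ
  rw [qq_eq_one.2 (not_or.2 ⟨ht.ne_one, not_iz ht⟩), add_eq_right] at this
  exact ⟨by rw [hq, hu, qq_self], by rw [hq, hf, this], (zmod2_eq _).resolve_left fun h => tQ
    ((mul_mem_cancel_right es_QQ.mem).1 (hf ▸ (S.polar_z (hOC 0) C hq hu f).1 h))⟩

omit tA tQ hq hu hf in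
theorem fix_iff {n : normalizer (AA S.M (hOC 0).1 : Set GG)} {x : Fin 10 → ZMod 2} : ρ n x = x ↔ Commute (n : GG) (e x) := by
  rw [← C.inj.eq_iff, C.act, mul_inv_eq_iff_eq_mul]; rfl

omit tA tQ in
theorem conj_W {n : normalizer (AA S.M (hOC 0).1 : Set GG)} (h1 : Commute (n : GG) t) (h2 : Commute (n : GG) zA)
    {x : Fin 10 → ZMod 2} (hx : x ∈ H12.perp q u f) : ρ n x ∈ H12.perp q u f := by
  have k := H12.O.map_B ⟨_, S.mem_O (hOC 0) C hq n⟩
  have a := k u x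
  have b := k f x
  dsimp only at a b
  rw [(fix_iff S C).2 (by rw [hu]; exact h2)] at a
  rw [(fix_iff S C).2 (hf ▸ h1.mul_right h2)] at b
  exact ⟨a.trans hx.1, b.trans hx.2⟩

omit tA tQ in
theorem lift_eich {a b : Fin 10 → ZMod 2} (ha : a ∈ H12.perp q u f) (hb : b ∈ H12.perp q u f) :
    ∃ n : normalizer (AA S.M (hOC 0).1 : Set GG), Commute (n : GG) t ∧ Commute (n : GG) zA ∧
      ∀ x, (H12.eich q a b).1 x = ρ n x := by
  have nd := S.nondeg (hOC 0) C hq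
  obtain ⟨n, hn⟩ := S.Om_le (hOC 0) C hq (H12.eich_mem_Om nd (H12.good_of_finrank_ne nd (by simp)) a b)
  have k : ∀ x, (H12.eich q a b).1 x = ρ n x := fun x => by rw [← hn]; rfl
  have h2 := hu ▸ (fix_iff S C).1 ((k u).symm.trans (H12.eich_apply_of_orth ha.1 hb.1))
  have h1 := hf ▸ (fix_iff S C).1 ((k f).symm.trans (H12.eich_apply_of_orth ha.2 hb.2))
  exact ⟨n, by simpa using h1.mul_right h2.inv_right, h2, k⟩

theorem cent_of_W (ht : IX t) {n : GG} (h1 : Commute n t) (h2 : Commute n zA)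
    (h : ∀ x ∈ H12.perp q u f, Commute n (e x)) : n ∈ centralizer (AA S.M (hOC 0).1 : Set GG) := fun a ha => by
  obtain ⟨x, rfl⟩ := C.surj a ha
  obtain ⟨a, b, w, hw, rfl⟩ := (hyp S tA tQ C hq hu hf ht).decomp x
  refine ((fix_iff S C (n := ⟨n, norm_A S tA tQ h1 h2⟩)).1 ?_).symm
  rw [map_add, map_add, map_smul, map_smul, (fix_iff S C).2 (by rw [hu]; exact h2), (fix_iff S C).2 (hf ▸ h1.mul_right h2),
    (fix_iff S C).2 (h w hw)]

theorem v4_W (ht : IX t) {x : Fin 10 → ZMod 2} (hx : x ∈ H12.perp q u f) (h : V4 t zA (e x)) : x = 0 := by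
  have hy := hyp S tA tQ C hq hu hf ht
  have := (S.polar_z (hOC 0) C hq hu x).1 hx.1
  rcases h with h | h | h | h
  · exact C.eq_one.1 h
  · exact absurd (h ▸ this) tQ
  · exact absurd (hy.hfe.symm.trans (C.inj (h.trans hu.symm) ▸ hx.2)) one_ne_zero
  · exact absurd ((mul_mem_cancel_right es_QQ.mem).1 (h ▸ this)) tQ

end

omit tQ in
theorem exists_co : ∃ e ρ, Co (AA S.M (hOC 0).1) 10 e ρ ∧ ∃ q : QuadraticForm (ZMod 2) (Fin 10 → ZMod 2),
    (∀ v, q v = qq zA (e v)) ∧ ∃ u f, e u = zA ∧ e f = t * zA := by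
  obtain ⟨e, ρ, C, q, hq⟩ := S.exists_form (hOC 0)
  obtain ⟨u, hu⟩ := C.surj _ (z_mem_AA _ _)
  obtain ⟨f, hf⟩ := C.surj _ (mul_mem tA (z_mem_AA _ _))
  exact ⟨e, ρ, C, q, hq, u, f, hu, hf⟩

theorem zc_y (ht : IX t) {c : GG} (h : ∀ x, Commute x t → Commute x zA → Commute x c) : V4 t zA c := by
  obtain ⟨e, ρ, C, q, hq, u, f, hu, hf⟩ := exists_co S tA
  have hy := hyp S tA tQ C hq hu hf ht
  obtain ⟨x, rfl⟩ := C.surj c fun x hx => h x (tA x hx) (es_QQ.central _ (TT_le _ _ hx))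
  obtain ⟨a, b, w, hw, rfl⟩ := hy.decomp x
  obtain rfl : w = 0 := by_contra fun w0 => by
    have := Submodule.finrank_mono (irr (S.nondeg (hOC 0) C hq) hy (by simp) (F := Submodule.span _ {w})
      (fun a' ha b' hb x hx => by
        obtain ⟨n, n1, n2, k⟩ := lift_eich S C hq hu hf ha hb
        obtain ⟨c, rfl⟩ := Submodule.mem_span_singleton.1 hx
        have := (fix_iff S C).2 (h n n1 n2)
        rw [map_add, map_add, map_smul, map_smul, (fix_iff S C).2 (by rw [hu]; exact n2),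
          (fix_iff S C).2 (hf ▸ n1.mul_right n2), add_right_inj] at this
        rwa [k, map_smul, this]) (Submodule.mem_span_singleton_self w) hw w0)
    have d := hy.finrank_perp
    rw [finrank_span_singleton w0] at this
    simp at d; omega
  have tz : Commute t zA := (tA _ (z_mem_TT _ _)).symm
  unfold V4
  rcases zmod2_eq a with rfl | rfl <;> rcases zmod2_eq b with rfl | rfl <;> simp [C.zero, C.add, hu, hf]
  rw [tz.eq, ← mul_assoc, es_QQ.sq]; simp

theorem y1_y (ht : IX t) : Y1 t zA := fun N hN hi n hn => by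
  obtain ⟨e, ρ, C, q, hq, u, f, hu, hf⟩ := exists_co S tA
  have cm : ∀ x, Commute x t → Commute x zA → n * x * n⁻¹ * x⁻¹ ∈ N := fun x h1 h2 => by
    simpa [mul_assoc] using mul_mem hn (hN.nm x h1 h2 _ (inv_mem hn))
  have nP := cent_of_W S tA tQ C hq hu hf ht (hN.ca n hn) (hN.cb n hn) fun x hx => by
    have sq := S.sq_AA (hOC 0) (C.mem x)
    refine (fix_iff S C (n := ⟨n, norm_A S tA tQ (hN.ca n hn) (hN.cb n hn)⟩)).1 (CharTwo.add_eq_zero.1
      (v4_W S tA tQ C hq hu hf ht (add_mem (conj_W S C hq hu hf (hN.ca n hn) (hN.cb n hn) hx) hx)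
        (hi _ ?_ (S.sq_AA (hOC 0) (C.mem _)))))
    rw [C.add, C.act]
    simpa only [inv_eq_of_mul_eq_one_right sq] using
      cm _ (S.comm_AA (hOC 0) (C.mem x) tA) (S.comm_AA (hOC 0) (C.mem x) (z_mem_AA _ _))
  obtain ⟨p, hp, a⟩ := ES_inner es_QQ (TT_le S.M (hOC 0).1) (z_mem_TT _ _) (hN.cb n hn) fun x hx => by
    have xQ := TT_le _ _ hx
    have m := mul_mem (H75.WC.conj_mem l3_QQ (hN.cb n hn) xQ) (inv_mem xQ)
    rcases hi _ (cm x (tA x hx) (es_QQ.central _ xQ)) (S.sq_AA (hOC 0) (S.cent_mod.1 n nP x fun a ha => (ha x hx).symm))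
      with h | h | h | h
    · exact Or.inl (mul_inv_eq_one.1 h)
    · exact absurd (h ▸ m) tQ
    · exact Or.inr ((mul_inv_eq_iff_eq_mul.1 h).trans (es_QQ.central _ xQ).symm)
    · exact absurd ((mul_mem_cancel_right es_QQ.mem).1 (h ▸ m)) tQ
  have c : Commute (p⁻¹ * n) n := nP _ a
  have : n * n = p * p := by
    have s := S.sq_AA (hOC 0) a
    calc n * n = p * (p⁻¹ * n * n) := by group
      _ = p * p * (p⁻¹ * n * (p⁻¹ * n)) := by rw [c.eq]; group
      _ = _ := by rw [s, mul_one]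
  exact this ▸ es_QQ.sq_mem hp

theorem le_P (ht : IX t) {N : Subgroup GG} (hN : NS zA t N) (hp : IsPGroup 2 N) :
    N ≤ centralizer (AA S.M (hOC 0).1 : Set GG) := by
  obtain ⟨e, ρ, C, q, hq, u, f, hu, hf⟩ := exists_co S tA
  have hy := hyp S tA tQ C hq hu hf ht
  have le : N ≤ normalizer (AA S.M (hOC 0).1 : Set GG) := fun n hn => norm_A S tA tQ (hN.cb n hn) (hN.ca n hn)
  have d := hy.finrank_perp
  obtain ⟨v, hv, v0, fx⟩ := exists_fix hp (ρ.comp (inclusion le)) (W := H12.perp q u f)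
    (fun n x hx => conj_W S C hq hu hf (hN.cb n n.2) (hN.ca n n.2) hx) (by simp at d; omega)
  let F : Submodule (ZMod 2) (Fin 10 → ZMod 2) :=
    { carrier := {x | ∀ n ∈ N, Commute n (e x)}
      zero_mem' := fun n _ => by rw [C.zero]; exact Commute.one_right _
      add_mem' := fun a b n hn => by rw [C.add]; exact (a n hn).mul_right (b n hn)
      smul_mem' := fun c x a n hn => by
        rcases zmod2_eq c with rfl | rfl
        · rw [zero_smul, C.zero]; exact Commute.one_right _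
        · rw [one_smul]; exact a n hn }
  have := irr (S.nondeg (hOC 0) C hq) hy (by simp) (F := F) (fun a ha b hb x hx n hn => by
    obtain ⟨m, m1, m2, k⟩ := lift_eich S C hq hu hf ha hb
    have := (hx _ (hN.nm _ m2.inv_left m1.inv_left _ hn)).map (cj (m : GG))
    rw [k, C.act]
    simpa [cj_apply, mul_assoc] using this)
    (fun n hn => (fix_iff S C (n := inclusion le ⟨n, hn⟩)).1 (fx ⟨n, hn⟩)) hv v0
  exact fun n hn => cent_of_W S tA tQ C hq hu hf ht (hN.cb n hn) (hN.ca n hn) fun x hx => this hx n hn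

omit tQ in
theorem trans_X (ht : IX t) {a : GG} (ha : a ∈ AA S.M (hOC 0).1) (ia : IX a) :
    ∃ n ∈ normalizer (AA S.M (hOC 0).1 : Set GG), n * t * n⁻¹ = a := by
  obtain ⟨e, ρ, C, q, hq⟩ := S.exists_form (hOC 0)
  have nd := S.nondeg (hOC 0) C hq
  have gd := H12.good_of_finrank_ne nd (by simp)
  obtain ⟨x, rfl⟩ := C.surj _ tA
  obtain ⟨y, rfl⟩ := C.surj _ ha
  have qx : q x = 1 := by rw [hq, qq_eq_one.2 (not_or.2 ⟨ht.ne_one, not_iz ht⟩)]
  obtain ⟨k, hk⟩ := H12.exists_map_of_Q_eq nd (v := x) (w := y) (qx ▸ one_ne_zero)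
    (by rw [qx, hq, qq_eq_one.2 (not_or.2 ⟨ia.ne_one, not_iz ia⟩)])
  obtain ⟨k, m, hk⟩ : ∃ k ∈ H12.Om q, k.1 x = y := by
    rw [H12.Om_eq_ker_dk nd gd rfl]
    rcases Int.units_eq_one_or (H12.dk nd gd k) with a | a
    · exact ⟨k, a, hk⟩
    · exact ⟨k * H12.refl q x, by rw [MonoidHom.mem_ker, map_mul, a, H12.dk_refl nd gd (qx ▸ one_ne_zero)]; simp, by
        rw [H12.O.mul_apply, H12.refl_apply_self (qx ▸ one_ne_zero), ZModModule.neg_eq_self, hk]⟩
  obtain ⟨n, rfl⟩ := S.Om_le (hOC 0) C hq m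
  exact ⟨n, n.2, (C.act n x).symm.trans (congrArg e hk)⟩

theorem ns_y (ht : IX t) : ¬ Sq zA t := fun ⟨N, h1, h2, h3⟩ => by
  classical
  obtain ⟨H, -, -, a1, a2, a3, a4⟩ := exists_H S tA tQ
  set P := centralizer (AA S.M (hOC 0).1 : Set GG)
  have mono : ∀ {K : Subgroup GG} (a : GG), K ≤ P → {w | w ∈ K ∧ w * w = a}.ncard ≤ {w | w ∈ P ∧ w * w = a}.ncard :=
    fun a h => Set.ncard_le_ncard fun w hw => ⟨h hw.1, hw.2⟩
  have cj : ∀ n ∈ normalizer (AA S.M (hOC 0).1 : Set GG), ∀ a,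
      {w | w ∈ P ∧ w * w = a}.ncard ≤ {w | w ∈ P ∧ w * w = n * a * n⁻¹}.ncard := fun n hn a =>
    Set.ncard_le_ncard_of_injOn (cj n) (fun w hw => ⟨conj_mem_of_normalizer (mem_normalizer_cent hn) hw.1, by
      rw [← map_mul, hw.2]; rfl⟩) (cj n).injective.injOn
  let A := (Set.toFinite (AA S.M (hOC 0).1 : Set GG)).toFinset
  have mA : ∀ {a}, a ∈ A ↔ a ∈ AA S.M (hOC 0).1 := Set.Finite.mem_toFinset _
  have cA : A.card = 1024 := (Set.ncard_eq_toFinset_card _ _).symm.trans (S.card_AA (hOC 0))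
  have m1 : (1 : GG) ∈ A := mA.2 (one_mem _)
  have m2 : zA ∈ A.erase 1 := Finset.mem_erase.2 ⟨es_QQ.ne_one, mA.2 (z_mem_AA _ _)⟩
  have b1 := sum_le P A
  rw [← Finset.add_sum_erase _ _ m1, ← Finset.add_sum_erase _ _ m2, S.card_cent_AA] at b1
  have b2 := Finset.card_nsmul_le_sum ((A.erase 1).erase zA) (fun a => {w | w ∈ P ∧ w * w = a}.ncard) (2 ^ 16)
    fun a ha => by
      have m := mA.1 (Finset.mem_of_mem_erase (Finset.mem_of_mem_erase ha))
      rcases H96.MRec.two_classes (S.sq_AA (hOC 0) m) (Finset.ne_of_mem_erase (Finset.mem_of_mem_erase ha)) with i | i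
      · obtain ⟨n, hn, rfl⟩ := trans_X S tA ht m i
        exact h3.trans ((mono _ (le_P S tA tQ ht h2 h1)).trans (cj n hn _))
      · obtain ⟨n, hn, rfl⟩ := S.trans_AA (hOC 0) m i
        exact a4.trans ((mono _ a1).trans (cj n hn _))
  rw [Finset.card_erase_of_mem m2, Finset.card_erase_of_mem m1, cA, smul_eq_mul] at b2
  have b3 : Nat.card H ≤ _ := (Set.ncard_le_ncard (t := {w | w ∈ P ∧ w * w = 1} ∪ {w | w ∈ P ∧ w * w = zA})
    fun w hw => (a3 w hw).imp (fun e => ⟨a1 hw, e⟩) fun e => ⟨a1 hw, e⟩).trans (Set.ncard_union_le _ _)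
  exact absurd ((Nat.add_le_add (a2.trans b3) b2).trans ((add_assoc _ _ _).trans_le b1)) (by norm_num)

end

theorem gd_y {t y : GG} (ht : IX t) (hy : IZ y) (hy' : IZ (t * y)) (c : Commute t y) : Gd t y ∧ Sq t y := by
  obtain ⟨g, φ, cl, S⟩ := exists_st
  have k : ∀ {y}, IZ y → IZ (t * y) → Commute t y → (∀ c, (∀ x, Commute x t → Commute x y → Commute x c) → V4 t y c) ∧
      Y1 t y ∧ ¬ Sq y t ∧ Sq t y := fun {y} hy hy' c => by
    have n : ¬InQ y t := fun h => not_iz (ht.mul_of_inQ h) hy'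
    obtain ⟨k, h1, h2⟩ := ys S ht hy c n
    have tQ : cj k t ∉ QQ ℝ := fun h => n (inQ_cj.1 (h1 ▸ inQ_z.2 h))
    obtain ⟨H, a1, a2, -, -, -, a3⟩ := exists_H S h2 tQ
    refine ⟨fun c hc => (v4_map (f := (cj k).toMonoidHom) (cj k).injective).1 (h1 ▸ zc_y S h2 tQ (ht.conj k)
      fun x x1 x2 => ?_ : V4 (cj k t) (cj k y) (cj k c)), Y1.of_map (cj k) (h1 ▸ y1_y S h2 tQ (ht.conj k)),
      fun h => ns_y S h2 tQ (ht.conj k) (h1 ▸ (sq_equiv (cj k)).2 h), (sq_equiv (cj k)).1 (h1 ▸ ⟨H, a1, a2, a3⟩)⟩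
    obtain ⟨x, rfl⟩ := (cj k).surjective x
    exact (hc x (x1.of_map (cj k).injective) ((h1 ▸ x2 : Commute (cj k x) (cj k y)).of_map (cj k).injective)).map _
  obtain ⟨a1, a2, a3, a4⟩ := k hy hy' c
  obtain ⟨-, b, -⟩ := k hy' (by rwa [← mul_assoc, ht.sq, one_mul]) ((Commute.refl t).mul_right c)
  refine ⟨⟨fun c _ => a1 c, fun N hN hi n hn => hi n hn ((a2 N hN hi n hn).elim id fun e => ?_), a3⟩, a4⟩
  exact (b N hN.mul (fun m hm e => (V4.mul ht.sq).2 (hi m hm e)) n hn).resolve_right fun f =>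
    ht.ne_one (by simpa using e.symm.trans f)

theorem eqns_TyY : True := by
  have := @Y1.eq_1.{0}
  trivial

end H7.SM
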