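import Mathlib
import Cfsg.Agent.Lib.StdM.TyY
import Cfsg.Agent.Lib.MonSC.Four
import Cfsg.Agent.Lib.YM.Nodes
import Cfsg.Agent.S1070
import Cfsg.Agent.S2130

/-!
# Pure four-groups of short involutions; all involutions that commute with a short one (helper7)
-/

set_option autoImplicit false

namespace H7.SM

open Subgroup Cfsg H95 H95.Gr H18.YG H18.TC

theorem center_GG : center GG = ⊥ :=
  (simple_GG.eq_bot_or_eq_top_of_normal _ inferInstance).resolve_right fun h => by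
    obtain ⟨c, hc⟩ := isConj_iff.1 (ix_t0.mul_of_inQ (inQ_z.2 t0_mem))
    rw [← mem_center_iff.1 (h.ge (mem_top c)), mul_inv_cancel_right] at hc
    exact iz_z.ne_one (by simpa using hc)

theorem pair_trans {a b a' b' : GG} (ha : IX a) (h : InD a b) (ha' : IX a') (h' : InD a' b') :
    ∃ g, cj g a = a' ∧ cj g b = b' := by
  obtain ⟨g, rfl⟩ := ha.ex
  obtain ⟨g', rfl⟩ := ha'.ex
  have i := h.conj g⁻¹
  have i' := h'.conj g'⁻¹
  rw [cj_cj] at i i'
  obtain ⟨c, hc, e⟩ := trans_D i i'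
  exact ⟨g' * c * g⁻¹, by rw [cj_mul, cj_mul, cj_cj, mem_HH.1 hc], by rw [cj_mul, cj_mul, e, cj_cj']⟩

theorem nd_inD {x : ℕ → GG} (hx : Nd x) : InD (x 5) (x 10) := ⟨hx.ix (by norm_num), hx.ix2⟩

theorem exists_nd {a b : GG} (ha : IX a) (h : InD a b) : ∃ x, Nd x ∧ x 5 = a ∧ x 10 = b := by
  obtain ⟨u, h1, h2⟩ := H77.YM.exists_nodes
  have hx : Nd (xs u) := ⟨sat_xs center_GG h1, h2⟩
  obtain ⟨g, e1, e2⟩ := pair_trans hx.2 (nd_inD hx) ha h
  exact ⟨_, ⟨hx.1.map (cj g).toMonoidHom, hx.2.conj g⟩, e1, e2⟩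

/-- the centraliser of two elements -/
abbrev C2 {G : Type*} [Group G] (a b : G) : Subgroup G := centralizer {a} ⊓ centralizer {b}

theorem mem_C2 {G : Type*} [Group G] {a b x : G} : x ∈ C2 a b ↔ Commute x a ∧ Commute x b :=
  and_congr mem_cent_iff mem_cent_iff

theorem V4.comm {G : Type*} [Group G] {a b v x : G} (h : V4 a b v) (h1 : Commute x a) (h2 : Commute x b) :
    Commute x v := by
  rcases h with rfl | rfl | rfl | rfl
  exacts [Commute.one_right _, h1, h2, h1.mul_right h2]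

theorem V4.sq {G : Type*} [Group G] {a b v : G} (h : V4 a b v) (aa : a * a = 1) (bb : b * b = 1) (c : Commute a b) :
    v * v = 1 := by
  rcases h with rfl | rfl | rfl | rfl
  exacts [one_mul _, aa, bb, by rw [c.symm.mul_mul_mul_comm, aa, bb, one_mul]]

section
variable {a b : GG} (ha : IX a) (h : InD a b)
include ha h

theorem inD_ne : a ≠ b := fun e => h.2.ne_one (e ▸ ha.sq)

theorem inD_symm : InD b a := ⟨ha, h.comm ha ▸ h.2⟩

theorem exists_psi2 : commutator (C2 a b) = ⊤ ∧ (∃ w ∈ C2 a b, IZ w) ∧ ∃ ψ : C2 a b →* H18.E6N.T,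
    Function.Surjective ψ ∧ (∀ k, ψ k = 1 ↔ V4 a b k.1) ∧ ∀ k, ψ k = 1 ↔ k ∈ center (C2 a b) := by
  obtain ⟨x, hx, rfl, rfl⟩ := exists_nd ha h
  have e : gsub x fF = C2 (x 5) (x 10) := (gsub_fF hx.1).trans hx.cent2
  have p : H29.IsPair (x 5) (x 10) := ⟨ha.sq, ha.ne_one, h.1.sq, h.1.ne_one, inD_ne ha h, h.comm ha⟩
  have c : Nat.card (gsub x fF) = 306129918735099415756800 := by
    obtain ⟨g, e1⟩ := hx.std
    have i := h.conj g
    rw [show cj g (x 5) = t0 from e1] at i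
    rw [← card_cent2 i, e, ← card_map_of_injective (cj g).injective (f := (cj g).toMonoidHom)]
    congr 2
    ext y
    obtain ⟨y, rfl⟩ := (cj g).surjective y
    rw [← e1]
    exact (mem_map_iff_mem (f := (cj g).toMonoidHom) (cj g).injective).trans (mem_C2.trans (Iff.trans
      ⟨fun k => ⟨k.1.map _, k.2.map _⟩, fun k => ⟨k.1.of_map (cj g).injective, k.2.of_map (cj g).injective⟩⟩ mem_C2.symm))
  have w : x 5 * x 10 * x 3 ∈ gsub x fE :=
    mul_mem (mul_mem (mem_gsub x (by decide)) (mem_gsub x (by decide))) (mem_gsub x (by decide))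
  have k := exists_psi hx.1 p c
  have q := perfect_fF hx.1
  rw [e] at k q
  obtain ⟨ψ, s, k⟩ := k
  have k' : ∀ k, ψ k = 1 ↔ V4 (x 5) (x 10) k.1 := fun y => (k y).trans p.mem_closure
  refine ⟨q, ⟨_, hx.cent2.le w, hx.iz3⟩, ψ, s, k', fun y => ⟨fun e => mem_center_iff.2 fun z => Subtype.ext
    (((k' y).1 e).comm (mem_C2.1 z.2).1 (mem_C2.1 z.2).2), fun e => ?_⟩⟩
  obtain ⟨i, n⟩ := Agent.S1070.result (K := H30.F4) (q := 2) Nat.prime_two.isPrimePow rfl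
  refine mem_bot.1 (((inferInstance : (center H18.E6N.T).Normal).eq_bot_or_eq_top.resolve_right fun f =>
    n ⟨⟨fun a b => mem_center_iff.1 (f.ge (mem_top b)) a⟩⟩).le (mem_center_iff.2 fun z => ?_))
  obtain ⟨z, rfl⟩ := s z
  rw [← map_mul, ← map_mul, mem_center_iff.1 e]

theorem gd_s : Gd a b := by
  obtain ⟨-, ⟨w, w1, w2⟩, ψ, s, k, k'⟩ := exists_psi2 ha h
  have c : Commute a b := h.comm ha
  obtain ⟨i, -⟩ := Agent.S1070.result (K := H30.F4) (q := 2) Nat.prime_two.isPrimePow rfl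
  have d : ∀ N, NS a b N → (∀ n ∈ N, V4 a b n) ∨ (N.subgroupOf (C2 a b)).map ψ = ⊤ := fun N hN =>
    (Normal.eq_bot_or_eq_top (Normal.map (H := N.subgroupOf (C2 a b))
      ⟨fun n hn c => hN.nm _ (mem_C2.1 c.2).1 (mem_C2.1 c.2).2 _ hn⟩ ψ s)).imp_left
      fun e n hn => (k ⟨n, mem_C2.2 ⟨hN.ca n hn, hN.cb n hn⟩⟩).1 (mem_bot.1 (e.le (mem_map_of_mem ψ hn)))
  refine ⟨fun x _ hx => (k ⟨x, mem_C2.2 ⟨(hx a rfl c).symm, (hx b c.symm rfl).symm⟩⟩).1 ((k' _).2 (mem_center_iff.2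
    fun y => Subtype.ext (hx _ (mem_C2.1 y.2).1 (mem_C2.1 y.2).2))), fun N hN hi => (d N hN).resolve_right fun e => ?_,
    fun ⟨N, h1, h2, h3⟩ => ?_⟩
  · obtain ⟨n, hn, f⟩ := e.ge (mem_top (ψ ⟨w, w1⟩))
    have v := (k ((⟨w, w1⟩ : C2 a b)⁻¹ * n)).1 (by rw [map_mul, map_inv, f, inv_mul_cancel])
    have := (k ⟨w, w1⟩).1 (f ▸ (k n).2 (hi _ hn (by
      have cv := v.comm (mem_C2.1 w1).1 (mem_C2.1 w1).2
      have e : (n : GG) = w * ((⟨w, w1⟩ : C2 a b)⁻¹ * n : C2 a b) := by simp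
      rw [e, cv.symm.mul_mul_mul_comm, w2.sq, v.sq ha.sq h.1.sq c, one_mul])))
    rcases this with f | f | f | f
    exacts [w2.ne_one f, not_iz ha (f ▸ w2), not_iz h.1 (f ▸ w2), not_iz h.2 (f ▸ w2)]
  · rcases d N h2.symm with e | e
    · rw [show {w | w ∈ N ∧ w * w = a} = ∅ from Set.eq_empty_of_forall_notMem fun w ⟨x, y⟩ =>
        ha.ne_one (y ▸ (e w x).sq ha.sq h.1.sq c)] at h3
      simp at h3
    · have : Fact (Nat.Prime 2) := ⟨Nat.prime_two⟩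
      obtain ⟨k, hk⟩ := IsPGroup.iff_card.1 ((h1.comap_subtype (K := C2 a b)).map ψ)
      have : Nat.card H18.E6N.T = 2 ^ k := by
        rw [← hk, ← card_top]; exact congrArg (fun K : Subgroup _ => Nat.card K) e.symm
      rw [H18.E6N.card_T] at this
      have := Nat.prime_three.dvd_of_dvd_pow (n := k) (m := 2) (by rw [← this]; norm_num)
      omega

/-- automorphisms of the centraliser that fix its centre are inner -/
theorem inner_s (β : MulAut (C2 a b)) (h1 : ∀ m, (β ⟨a, m⟩).1 = a) (h2 : ∀ m, (β ⟨b, m⟩).1 = b) :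
    ∃ e, ∀ x, β x = e * x * e⁻¹ := by
  obtain ⟨p, -, ψ, s, k, k'⟩ := exists_psi2 ha h
  have c : Commute a b := h.comm ha
  have m : ∀ {v}, V4 a b v → v ∈ C2 a b := fun hv => mem_C2.2 ⟨(hv.comm rfl c).symm, (hv.comm c.symm rfl).symm⟩
  have v1 : V4 a b a := Or.inr (Or.inl rfl)
  have v2 : V4 a b b := Or.inr (Or.inr (Or.inl rfl))
  have v3 : V4 a b (a * b) := Or.inr (Or.inr (Or.inr rfl))
  have : Fact (Nat.Prime 2) := ⟨Nat.prime_two⟩
  refine inner_of_six p ψ s k' (Agent.S2130.result (K := H30.F4) 2 1 rfl le_rfl) ((k' _).1 ((k ⟨a, m v1⟩).2 v1))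
    ((k' _).1 ((k ⟨b, m v2⟩).2 v2)) ?_ β (Subtype.ext (h1 _)) (Subtype.ext (h2 _))
  have o : ∀ {p q} (hp : V4 a b p) (hq : V4 a b q), IX p → InD p q →
      ((⟨p, m hp⟩, ⟨q, m hq⟩) : C2 a b × C2 a b) ∈ MulAction.orbit (MulAut (C2 a b)) (⟨a, m v1⟩, ⟨b, m v2⟩) :=
    fun {p q} hp hq i j => by
      obtain ⟨g, rfl, rfl⟩ := pair_trans ha h i j
      have : g⁻¹ ∈ normalizer (C2 a b : Set GG) := mem_normalizer_of_finite fun x hx => by
        have := fun {v} (hv : V4 a b (cj g v)) =>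
          (hv.comm (mem_C2.1 hx).1 (mem_C2.1 hx).2).map (cj g⁻¹)
        simp only [cj_cj] at this
        exact mem_C2.2 ⟨this hp, this hq⟩
      exact ⟨normalizerMonoidHom _ ⟨g, inv_mem_iff.1 this⟩, rfl⟩
  have d := inD_symm ha h
  have n1 := inD_ne ha h
  have n2 := inD_ne ha (h.mul ha)
  have d' : InD b (a * b) := c.eq ▸ d.mul h.1
  have n3 := inD_ne h.1 d'
  classical
  refine le_trans ?_ (Set.ncard_le_ncard (s := (({(⟨a, m v1⟩, ⟨b, m v2⟩), (⟨a, m v1⟩, ⟨_, m v3⟩), (⟨b, m v2⟩, ⟨a, m v1⟩),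
    (⟨b, m v2⟩, ⟨_, m v3⟩), (⟨_, m v3⟩, ⟨a, m v1⟩), (⟨_, m v3⟩, ⟨b, m v2⟩)} : Finset (C2 a b × C2 a b)) : Set _)) ?_)
  · rw [Set.ncard_coe_finset]
    repeat rw [Finset.card_insert_of_notMem (by simp [n1, n2, n3, n1.symm, n2.symm, n3.symm])]
    simp
  · simp only [Finset.coe_insert, Finset.coe_singleton, Set.insert_subset_iff, Set.singleton_subset_iff]
    exact ⟨o v1 v2 ha h, o v1 v3 ha (h.mul ha), o v2 v1 h.1 d, o v2 v3 h.1 d', o v3 v1 h.2 (inD_symm ha (h.mul ha)),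
      o v3 v2 h.2 (inD_symm h.1 d')⟩

end

theorem gd_q {t w : GG} (ht : IX t) (h : InQ w t) : Gd t w ∧ Sq t w := by
  obtain ⟨g, rfl, rfl⟩ := std_Z ht h
  exact ⟨Gd.of_map (cj g⁻¹) (by rw [cj_cj, cj_cj]; exact gd_z), (sq_equiv (cj g)).2 sq_z⟩

theorem cls_mul {t l : GG} (ht : IX t) (ll : l * l = 1) (n : l ≠ t) (c : Commute l t) : IX (t * l) ∨ IZ (t * l) :=
  H96.MRec.two_classes (by rw [c.mul_mul_mul_comm, ht.sq, ll, one_mul]) fun e => n (by
    rw [eq_inv_of_mul_eq_one_right e, ht.inv])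

theorem gd_iz {t l : GG} (ht : IX t) (hl : IZ l) (c : Commute l t) : Gd t l ∧ Sq t l :=
  (cls_mul ht hl.sq (fun e => not_iz ht (e ▸ hl)) c).elim (fun i => gd_q ht (inQ_of_mul' ht hl i))
    fun i => gd_y ht hl i c.symm

theorem gd {t l : GG} (ht : IX t) (ll : l * l = 1) (l1 : l ≠ 1) (n : l ≠ t) (c : Commute l t) : Gd t l := by
  rcases H96.MRec.two_classes ll l1 with i | i
  · rcases cls_mul ht ll n c with j | j
    · exact gd_s ht ⟨i, j⟩
    · exact Gd.mul ht.sq (gd_iz ht j ((Commute.refl t).mul_left c)).1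
  · exact (gd_iz ht i c).1

theorem eqns_TyS : True := by
  have := @C2.eq_1.{0}
  trivial

end H7.SM
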