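import Mathlib
import Cfsg.Agent.Lib.StdM.TyS

/-!
# Groups in which the centraliser of an involution is the double cover of the Baby Monster (helper7)
-/

set_option autoImplicit false

namespace H7.SM

open Subgroup Cfsg H95 H95.Gr H16

variable {G : Type*} [Group G]

/-- `κ` maps the centraliser of `a` isomorphically onto the centraliser of `κ a` -/
structure Emb (a : GG) (κ : GG → G) : Prop where
  mul : ∀ x y, Commute x a → Commute y a → κ (x * y) = κ x * κ y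
  inj : ∀ x y, Commute x a → Commute y a → κ x = κ y → x = y
  sur : ∀ g, Commute g (κ a) → ∃ x, Commute x a ∧ κ x = g

namespace Emb
variable {a : GG} {κ : GG → G} (h : Emb a κ)
include h

theorem hom : ∃ f : centralizer ({a} : Set GG) →* G, Function.Injective f ∧ ∀ x, f x = κ x :=
  ⟨MonoidHom.mk' (fun x => κ x) fun x y => h.mul _ _ (mem_cent_iff.1 x.2) (mem_cent_iff.1 y.2),
    fun x y e => Subtype.ext (h.inj _ _ (mem_cent_iff.1 x.2) (mem_cent_iff.1 y.2) e), fun _ => rfl⟩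

theorem one : κ 1 = 1 := by
  obtain ⟨f, -, e⟩ := h.hom
  exact (e 1).symm.trans (map_one f)

theorem inv {x : GG} (hx : Commute x a) : κ x⁻¹ = (κ x)⁻¹ :=
  eq_inv_of_mul_eq_one_left (by rw [← h.mul _ _ hx.inv_left hx, inv_mul_cancel, h.one])

theorem map_conj {x y : GG} (hx : Commute x a) (hy : Commute y a) : κ (x * y * x⁻¹) = κ x * κ y * (κ x)⁻¹ := by
  rw [h.mul _ _ (hx.mul_left hy) hx.inv_left, h.mul _ _ hx hy, h.inv hx]

theorem comm {x y : GG} (hx : Commute x a) (hy : Commute y a) : Commute (κ x) (κ y) ↔ Commute x y := by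
  rw [commute_iff_eq, commute_iff_eq, ← h.mul _ _ hx hy, ← h.mul _ _ hy hx]
  exact ⟨h.inj _ _ (hx.mul_left hy) (hy.mul_left hx), congrArg κ⟩

theorem eq_one {x : GG} (hx : Commute x a) (e : κ x = 1) : x = 1 :=
  h.inj _ _ hx (Commute.one_left a) (e.trans h.one.symm)

theorem conj (g : G) : Emb a fun x => g * κ x * g⁻¹ :=
  ⟨fun x y hx hy => by rw [h.mul x y hx hy, conj_mul], fun x y hx hy e => h.inj x y hx hy (by simpa using e),
    fun k hk => by
      obtain ⟨x, hx, e⟩ := h.sur (g⁻¹ * k * g) (by simpa [mul_assoc] using hk.map (MulAut.conj g⁻¹))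
      exact ⟨x, hx, by rw [e]; group⟩⟩

theorem pre {b c : GG} (e : cj c b = a) : Emb b fun x => κ (cj c x) := by
  subst e
  refine ⟨fun x y hx hy => by rw [map_mul, h.mul _ _ (hx.map _) (hy.map _)],
    fun x y hx hy e => (cj c).injective (h.inj _ _ (hx.map _) (hy.map _) e), fun k hk => ?_⟩
  obtain ⟨x, hx, e⟩ := h.sur k hk
  obtain ⟨x, rfl⟩ := (cj c).surjective x
  exact ⟨x, hx.of_map (cj c).injective, e⟩

theorem sq {x y : GG} (hx : Commute x a) (hy : Commute y a) (e : x = a ∨ y = a) : Sq (κ x) (κ y) ↔ Sq x y := by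
  obtain ⟨f, i, k⟩ := h.hom
  have := sq_map (f := (centralizer ({a} : Set GG)).subtype) (a := ⟨x, mem_cent_iff.2 hx⟩) (b := ⟨y, mem_cent_iff.2 hy⟩)
    Subtype.val_injective fun g h1 h2 => by
      rw [range_subtype]; rcases e with rfl | rfl
      exacts [mem_cent_iff.2 h1, mem_cent_iff.2 h2]
  refine Iff.trans ?_ this.symm
  rw [← k ⟨x, mem_cent_iff.2 hx⟩, ← k ⟨y, mem_cent_iff.2 hy⟩]
  refine sq_map i fun g h1 h2 => ?_
  rw [k] at h1 h2
  obtain ⟨z, hz, rfl⟩ := h.sur g (by rcases e with rfl | rfl; exacts [h1, h2])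
  exact ⟨⟨z, mem_cent_iff.2 hz⟩, k _⟩

/-- fused involutions are short -/
theorem ix (ha : IX a) {l : GG} (hl : Commute l a) (c : IsConj (κ a) (κ l)) : IX l := by
  obtain ⟨g, e⟩ := isConj_iff.1 c
  have r := Commute.refl a
  have aa : κ a * κ a = 1 := by rw [← h.mul _ _ r r, ha.sq, h.one]
  have a1 : κ a ≠ 1 := fun e => ha.ne_one (h.eq_one r e)
  refine (H96.MRec.two_classes (h.eq_one (hl.mul_left hl) (by rw [h.mul _ _ hl hl, ← e, conj_mul, aa]; simp))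
    fun f => a1 (by simpa [f, h.one] using e)).resolve_right fun i => ?_
  obtain ⟨m, hm, f⟩ := h.sur (g⁻¹ * κ a * g) (by
    simpa [← e, mul_assoc] using ((h.comm r hl).2 hl.symm).map (MulAut.conj g⁻¹))
  have := (sq_equiv (MulAut.conj g⁻¹)).2 ((h.sq r hl (Or.inl rfl)).2 (gd_iz ha i hl).2)
  rw [← e, MulAut.conj_apply, MulAut.conj_apply, inv_inv, ← f, show g⁻¹ * (g * κ a * g⁻¹) * g = κ a by group,
    h.sq hm r (Or.inr rfl)] at this
  refine (gd ha (h.eq_one (hm.mul_left hm) ?_) (fun q => a1 ?_) (fun q => not_iz ha ?_) hm).ns this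
  · rw [h.mul _ _ hm hm, f, ← inv_inv g, inv_inv g⁻¹, conj_mul, aa]; simp
  · rw [q, h.one] at f; simpa [mul_assoc] using congrArg (fun x => g * x * g⁻¹) f.symm
  · rwa [h.inj l a hl r (by rw [q] at f; rw [← e]; nth_rewrite 1 [f]; group)] at i

theorem inD (ha : IX a) {l : GG} (hl : Commute l a) (c : IsConj (κ a) (κ l)) (c' : IsConj (κ a) (κ a * κ l)) :
    InD a l := ⟨h.ix ha hl c, h.ix ha ((Commute.refl a).mul_left hl) (h.mul _ _ rfl hl ▸ c')⟩

theorem isConj {c x : GG} (hc : Commute c a) (hx : Commute x a) : IsConj (κ x) (κ (cj c x)) :=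
  isConj_iff.2 ⟨_, (h.map_conj hc hx).symm⟩

/-- two embeddings differ by an inner automorphism on the common domain -/
theorem agree {b : GG} {κ' : GG → G} (h' : Emb b κ') (ha : IX a) (hb : InD a b) (e1 : κ' a = κ a) (e2 : κ' b = κ b) :
    ∃ e, Commute e a ∧ Commute e b ∧ ∀ x, Commute x a → Commute x b → κ' x = κ (cj e x) := by
  have c : Commute a b := hb.comm ha
  have : ∀ x : C2 a b, ∃ y : C2 a b, κ y = κ' x := fun x => by
    obtain ⟨x1, x2⟩ := mem_C2.1 x.2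
    obtain ⟨y, hy, e⟩ := h.sur (κ' x) (e1 ▸ (h'.comm x2 c).2 x1)
    exact ⟨⟨y, mem_C2.2 ⟨hy, (h.comm hy c.symm).1 (e ▸ e2 ▸ (h'.comm x2 rfl).2 x2)⟩⟩, e⟩
  choose f hf using this
  let F : C2 a b →* C2 a b := MonoidHom.mk' f fun x y => Subtype.ext (h.inj _ _ (mem_C2.1 (f _).2).1
    (mem_C2.1 (f x * f y).2).1 (by
      rw [coe_mul, h.mul _ _ (mem_C2.1 (f x).2).1 (mem_C2.1 (f y).2).1, hf, hf, hf, coe_mul,
        h'.mul _ _ (mem_C2.1 x.2).2 (mem_C2.1 y.2).2]))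
  have i : Function.Injective F := fun x y e => Subtype.ext (h'.inj _ _ (mem_C2.1 x.2).2 (mem_C2.1 y.2).2 (by
    rw [← hf, ← hf]; exact congrArg (fun z : C2 a b => κ z) e))
  obtain ⟨e, he⟩ := inner_s ha hb (MulEquiv.ofBijective F (Finite.injective_iff_bijective.1 i))
    (fun m => h.inj _ _ (mem_C2.1 (f _).2).1 rfl ((hf _).trans e1))
    fun m => h.inj _ _ (mem_C2.1 (f _).2).1 c.symm ((hf _).trans e2)
  exact ⟨e, (mem_C2.1 e.2).1, (mem_C2.1 e.2).2, fun x h1 h2 =>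
    (hf ⟨x, mem_C2.2 ⟨h1, h2⟩⟩).symm.trans (congrArg (fun z : C2 a b => κ z) (he _))⟩

end Emb

theorem exists_perp : ∃ r s : GG, Commute r t0 ∧ Commute s t0 ∧ IX r ∧ InD r s ∧
    InQ (t0 * r) t0 ∧ InQ (t0 * s) t0 ∧ InQ (t0 * (r * s)) t0 := by
  obtain ⟨a, ha⟩ := mon.ex_elt (vB (some 1) (some 2))
  obtain ⟨b, hb⟩ := mon.ex_elt (vB (some 2) (some 3))
  have k : ∀ {v x}, cls v x → Mn v → dt H16.vU v = 0 → Commute x t0 ∧ IX x ∧ InQ (t0 * x) t0 := fun hx h1 h2 =>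
    ⟨(mon.commute_iff hx cls_t0).2 (by rw [dotInt_comm]; exact ⟨0, h2⟩), ix32 hx h1, inQ_perp' h1 h2 hx⟩
  obtain ⟨a1, a2, a3⟩ := k ha (by decide +kernel) (by decide +kernel)
  obtain ⟨b1, b2, b3⟩ := k hb (by decide +kernel) (by decide +kernel)
  obtain ⟨-, c2, c3⟩ := k (mon.add ha hb) (by decide +kernel) (by decide +kernel)
  exact ⟨a, b, a1, b1, a2, ⟨b2, c2⟩, a3, b3, c3⟩

namespace Emb
variable {κ : GG → G} (h : Emb t0 κ)
include h

theorem fuse (zs : ∃ g : G, g * κ t0 * g⁻¹ ≠ κ t0 ∧ Commute (g * κ t0 * g⁻¹) (κ t0)) {s : GG} (hs : InD t0 s) :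
    IsConj (κ t0) (κ s) := by
  suffices ∃ s, InD t0 s ∧ IsConj (κ t0) (κ s) by
    obtain ⟨s', h1, h2⟩ := this
    obtain ⟨c, hc, rfl⟩ := trans_D h1 hs
    exact h2.trans (h.isConj (mem_cent_iff.1 hc) (h1.comm ix_t0).symm)
  obtain ⟨g, n, c⟩ := zs
  obtain ⟨l, hl, e⟩ := h.sur _ c
  have i : IsConj (κ t0) (κ l) := isConj_iff.2 ⟨g, e.symm⟩
  have j := h.ix ix_t0 hl i
  rcases cls_mul ix_t0 j.sq (fun f => n (by rw [← e, f])) hl with k | k
  · exact ⟨l, ⟨j, k⟩, i⟩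
  have q : InQ (t0 * l) t0 := inQ_of_mul ix_t0 j k
  have all : ∀ r, Commute r t0 → InQ (t0 * r) t0 → IsConj (κ t0) (κ r) := fun r hr hq => by
    obtain ⟨c, c1, c2⟩ := trans_Z ix_t0 q hq
    rw [map_mul, c1, mul_right_inj] at c2
    exact c2 ▸ i.trans (h.isConj (mem_cent_iff.1 (mem_HH.2 c1)) hl)
  obtain ⟨r, s, r1, s1, r2, d, q1, q2, q3⟩ := exists_perp
  obtain ⟨k, hk⟩ := isConj_iff.1 (all r r1 q1).symm
  have cs : Commute (κ s) (κ r) := (h.comm s1 r1).2 (d.comm r2).symm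
  obtain ⟨u, hu, f⟩ := h.sur (k * κ s * k⁻¹) (hk ▸ cs.map (MulAut.conj k))
  have i1 : IsConj (κ t0) (κ u) := (all s s1 q2).trans (isConj_iff.2 ⟨k, f.symm⟩)
  exact ⟨u, h.inD ix_t0 hu i1 ((all _ (r1.mul_left s1) q3).trans (isConj_iff.2 ⟨k, by
    rw [h.mul _ _ r1 s1, ← conj_mul, hk, f]⟩)), i1⟩

/-- extension to the centraliser of a neighbour -/
theorem ext (zs : ∃ g : G, g * κ t0 * g⁻¹ ≠ κ t0 ∧ Commute (g * κ t0 * g⁻¹) (κ t0)) {s : GG} (hs : InD t0 s) :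
    ∃ κ' : GG → G, Emb s κ' ∧ ∀ x, Commute x t0 → Commute x s → κ' x = κ x := by
  have c : Commute s t0 := (hs.comm ix_t0).symm
  obtain ⟨g, e⟩ := isConj_iff.1 (h.fuse zs hs)
  have h1 := h.conj g
  obtain ⟨l, hl, f⟩ := h1.sur (κ t0) (by rw [e]; exact (h.comm rfl c).2 c.symm)
  have i : InD t0 l := h1.inD ix_t0 hl (by rw [e, f]; exact (h.fuse zs hs).symm) (by
    rw [e, f, ← h.mul _ _ c rfl, c.eq]; exact (h.fuse zs hs).symm.trans (h.fuse zs (hs.mul ix_t0)))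
  obtain ⟨d, d1, d2⟩ := pair_trans hs.1 (inD_symm ix_t0 hs) ix_t0 i
  have h2 := h1.pre d1
  obtain ⟨u, u1, u2, k⟩ := h.agree h2 ix_t0 hs (by rw [d2, f]) (by rw [d1, e])
  refine ⟨_, h2.pre (c := u⁻¹) (b := s) (by rw [cj_apply, u2.inv_left.eq, mul_inv_cancel_right]), fun x x1 x2 => ?_⟩
  have := k _ ((u1.inv_left.mul_left x1).mul_left u1.inv_left.inv_left)
    ((u2.inv_left.mul_left x2).mul_left u2.inv_left.inv_left)
  rwa [← cj_apply, cj_cj'] at this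

end Emb

end H7.SM
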