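import Mathlib
import Cfsg.Agent.Lib.StdM.Emb

/-!
# The Monster embeds in a group with such a centraliser (helper7)
-/

set_option autoImplicit false
set_option maxRecDepth 100000

namespace H7.SM

open Subgroup Cfsg H95 H95.Gr H18.YG H18.TC

theorem dual2 {w b : GG} (hw : w ∈ QQ ℝ) (hb : b ∈ QQ ℝ)
    (h : ∀ x ∈ QQ ℝ, Commute x t0 → Commute x b → Commute x w) : V4 t0 zA w ∨ V4 t0 zA (w * b) := by
  by_cases a : ∀ x ∈ QQ ℝ, Commute x t0 → Commute x w
  · exact Or.inl (v4_of_cent hw a)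
  push Not at a
  obtain ⟨y, hy, y1, y2⟩ := a
  refine Or.inr (v4_of_cent (mul_mem hw hb) fun x hx x1 => ?_)
  by_cases c : Commute x b
  · exact (h x hx x1 c).mul_right c
  have := h _ (mul_mem hx hy) (x1.mul_left y1) (es_QQ.mul_comm_of_ne hb hx hy c fun e => y2 (h y hy y1 e))
  exact (es_QQ.mul_comm_of_ne hx hw hb (fun e => y2 (by simpa using (Commute.inv_left e.symm).mul_left this))
    fun e => c e.symm).symm

theorem cent3 {b e : GG} (hb : b ∈ QQ ℝ) (bb : b * b = 1) (bt : Commute b t0)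
    (h : ∀ x, Commute x t0 → Commute x b → Commute x zA → Commute x e) : V4 t0 zA e ∨ V4 t0 zA (e * b) := by
  have bz : Commute b zA := es_QQ.central _ hb
  have ez := (h _ tz.symm bz.symm rfl).symm
  have k := fun x (hx : x ∈ QQ ℝ) x1 x2 => h x x1 x2 (es_QQ.central _ hx)
  refine dual2 (mem_Q ez (h _ rfl bt.symm tz).symm fun x hx x1 => ?_) hb k
  by_cases c : Commute x b
  · exact Or.inl (by rw [← (k x hx x1 c).eq]; group)
  have m := H75.WC.conj_mem l3_QQ ez hx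
  refine (dual2 (mul_mem m (inv_mem hx)) hb fun y hy y1 y2 => ?_).resolve_right fun v => ?_
  · have c := k y hy y1 y2
    rcases es_QQ.conj hy hx with q | q
    · have q : Commute y x := (mul_inv_eq_iff_eq_mul.1 q).symm
      exact ((c.mul_right q).mul_right c.inv_right).mul_right q.inv_right
    · refine (es_QQ.mul_comm_of_ne hy m (inv_mem hx) (fun f => ?_) fun f => ?_).symm <;> refine iz_z.ne_one ?_
      · have : Commute x y := by simpa [mul_assoc] using (c.inv_right.symm.mul_left f).mul_left c.symm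
        simpa [this.eq] using q
      · have : Commute x y := by simpa using Commute.inv_left f
        simpa [this.eq] using q
  · generalize hv : e * x * e⁻¹ * x⁻¹ * b = u at v
    have e1 : e * x * e⁻¹ = u * b * x := by rw [← hv, mul_assoc _ b b, bb]; group
    have c1 := v4_comm v hx x1
    have c2 := v4_comm v hb bt
    have e2 : e * x * e⁻¹ * (e * x * e⁻¹) = x * x := by
      rw [conj_mul]; rcases es_QQ.sq_mem hx with q | q <;> rw [q]
      exacts [by group, by rw [ez.eq]; group]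
    rw [e1, mul_assoc u, ((c2.mul_left c1)).mul_mul_mul_comm, v.sq t0_sq es_QQ.sq tz, one_mul, ← mul_assoc,
      mul_left_inj, mul_assoc, ← inv_eq_of_mul_eq_one_right bb, inv_mul_eq_iff_eq_mul, inv_eq_of_mul_eq_one_right bb] at e2
    exact c e2

theorem cent_tri {a b c e : GG} (ha : IX a) (h : InD a b) (hac : InD a c) (hbc : InD b c) (hw : IZ (a * b * c))
    (he : ∀ x, Commute x a → Commute x b → Commute x c → Commute x e) :
    ∃ v, V4 a b v ∧ ∀ y, Commute y c → cj e y = cj v y := by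
  have ab : Commute a b := h.comm ha
  have bc : Commute b c := hbc.comm h.1
  have e1 : a * (a * b * c) = b * c := by rw [← mul_assoc, ← mul_assoc, ha.sq, one_mul]
  have e2 : b * (a * b * c) = a * c := by rw [ab.eq, ← mul_assoc, ← mul_assoc, h.1.sq, one_mul]
  have key : V4 a (a * b * c) e ∨ V4 a (a * b * c) (e * b) := by
    have q := inQ_of_mul' h.1 hw (e2 ▸ hac.2)
    obtain ⟨g, g1, g2⟩ := std_Z ha (inQ_of_mul' ha hw (e1 ▸ hbc.2))
    obtain ⟨b, rfl⟩ := (cj g).surjective b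
    obtain ⟨e, rfl⟩ := (cj g).surjective e
    rw [← g2, inQ_cj, inQ_z] at q
    have i : Function.Injective (cj g).toMonoidHom := (cj g).injective
    have := cent3 (e := e) q (ix_cj.1 h.1).sq ((g1 ▸ ab.symm : Commute (cj g b) (cj g t0)).of_map i) fun x x1 x2 x3 => by
      have y1 : Commute (cj g x) a := g1 ▸ x1.map _
      have y3 : Commute (cj g x) (a * cj g b * c) := g2 ▸ x3.map _
      exact (he _ y1 (x2.map _) (inv_mul_cancel_left (a * cj g b) c ▸ (y1.mul_right (x2.map (cj g))).inv_right.mul_right y3)).of_map i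
    rw [← v4_map i, ← v4_map i (x := e * b), map_mul] at this
    rwa [← g2, ← g1]
  suffices ∃ v, V4 a b v ∧ (e = v ∨ e = v * c) by
    obtain ⟨v, h1, rfl | rfl⟩ := this
    exacts [⟨_, h1, fun _ _ => rfl⟩, ⟨v, h1, fun y hy => by rw [cj_mul, cj_apply c, ← hy.eq, mul_inv_cancel_right]⟩]
  have s : ∀ {u}, e * b = u → e = u * b := fun f => by rw [← f, mul_assoc, h.1.sq, mul_one]
  rcases key with (f | f | f | f) | (f | f | f | f)
  · exact ⟨1, Or.inl rfl, Or.inl f⟩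
  · exact ⟨a, Or.inr (Or.inl rfl), Or.inl f⟩
  · exact ⟨_, Or.inr (Or.inr (Or.inr rfl)), Or.inr f⟩
  · exact ⟨b, Or.inr (Or.inr (Or.inl rfl)), Or.inr (f.trans e1)⟩
  · exact ⟨b, Or.inr (Or.inr (Or.inl rfl)), Or.inl ((s f).trans (one_mul _))⟩
  · exact ⟨_, Or.inr (Or.inr (Or.inr rfl)), Or.inl (s f)⟩
  · exact ⟨a, Or.inr (Or.inl rfl), Or.inr (by rw [s f, bc.right_comm, mul_assoc, h.1.sq, mul_one])⟩
  · exact ⟨1, Or.inl rfl, Or.inr (by rw [s f, e1, bc.eq, mul_assoc, h.1.sq, mul_one, one_mul])⟩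

variable {G : Type*} [Group G]

theorem mv {g : ℕ → G} (h : Sat g 14 R553) {p : G} (j : ℕ) : ∀ (l : List ℕ) (i : ℕ), (∀ n ∈ i :: l, Commute p (g n)) →
    List.IsChain (fun x y => [x, y, x, y, x, y] ∈ R553 ∨ [y, x, y, x, y, x] ∈ R553) (i :: l) →
    (i :: l).getLast? = some j → IsConj (p * g i) (p * g j)
  | [], i, _, _, e => by rw [show i = j from Option.some.inj e]
  | k :: l, i, c, s, e => by
    refine IsConj.trans (isConj_iff.2 ⟨ev g [k, i], ?_⟩) (mv h j l k (fun n hn => c n (List.mem_cons_of_mem _ hn))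
      (List.isChain_cons_cons.1 s).2 e)
    have : Commute p (ev g [k, i]) := mem_centralizer_singleton_iff.1 (ev_mem (K := centralizer {p}) fun n hn =>
      mem_centralizer_singleton_iff.2 (c n (by simp at hn ⊢; tauto)).symm) |>.symm
    rw [← conj_mul, h.conj (List.isChain_cons_cons.1 s).1, ← this.eq, mul_inv_cancel_right]

theorem ev_emb {a : GG} {κ : GG → G} (h : Emb a κ) {x : ℕ → GG} {g : ℕ → G} (R : List ℕ)
    (c : ∀ n ∈ R, Commute (x n) a ∧ g n = κ (x n)) : Commute (ev x R) a ∧ ev g R = κ (ev x R) := by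
  induction R with
  | nil => exact ⟨Commute.one_left a, h.one.symm⟩
  | cons n R ih =>
    obtain ⟨i1, i2⟩ := ih fun m hm => c m (List.mem_cons_of_mem _ hm)
    obtain ⟨j1, j2⟩ := c n List.mem_cons_self
    rw [ev_cons, ev_cons, h.mul _ _ i1 j1, i2, j2]
    exact ⟨i1.mul_left j1, rfl⟩

theorem Emb.lift {κ : GG → G} (h : Emb t0 κ)
    (zs : ∃ g : G, g * κ t0 * g⁻¹ ≠ κ t0 ∧ Commute (g * κ t0 * g⁻¹) (κ t0)) :
    ∃ φ : GG →* G, Function.Injective φ ∧ centralizer {φ t0} ≤ φ.range := by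
  obtain ⟨s, -, hs, -⟩ := exists_sq
  obtain ⟨x, hx, e5, -⟩ := exists_nd ix_t0 hs
  have k := sat553 hx.1
  have cm : ∀ {i j}, (i = j ∨ [i, j, i, j] ∈ R553 ∨ [j, i, j, i] ∈ R553) → Commute (x i) (x j) :=
    fun c => c.elim (fun e => e ▸ rfl) k.comm
  have c5 : ∀ n, n < 14 → n ≠ 4 → Commute (x n) (x 5) := fun n a b => cm
    ((by decide +kernel : ∀ n < 14, n ≠ 4 → n = 5 ∨ [n, 5, n, 5] ∈ R553 ∨ [5, n, 5, n] ∈ R553) n a b)
  have c10 : ∀ n, n < 14 → n ≠ 9 → Commute (x n) (x 10) := fun n a b => cm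
    ((by decide +kernel : ∀ n < 14, n ≠ 9 → n = 10 ∨ [n, 10, n, 10] ∈ R553 ∨ [10, n, 10, n] ∈ R553) n a b)
  have c13 : ∀ n, n < 14 → n ≠ 12 → Commute (x n) (x 13) := fun n a b => cm
    ((by decide +kernel : ∀ n < 14, n ≠ 12 → n = 13 ∨ [n, 13, n, 13] ∈ R553 ∨ [13, n, 13, n] ∈ R553) n a b)
  have d1 := nd_inD hx
  have d2 : InD (x 5) (x 13) := ⟨hx.ix (by norm_num), hx.ix2.trans (mv k 13 [9, 8, 7, 6, 0, 11, 12, 13] 10
    (fun n hn => (c5 n (by revert n; decide) (by revert n; decide)).symm) (by decide +kernel) rfl)⟩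
  have d3 : InD (x 10) (x 13) := ⟨hx.ix (by norm_num), (inD_symm hx.2 d1).2.trans
    (mv k 13 [4, 3, 2, 1, 0, 11, 12, 13] 5 (fun n hn => (c10 n (by revert n; decide) (by revert n; decide)).symm)
      (by decide +kernel) rfl)⟩
  have d4 : IZ (x 5 * x 10 * x 13) := hx.iz3.trans (mv k 13 [2, 1, 0, 11, 12, 13] 3 (fun n hn =>
    (c5 n (by revert n; decide) (by revert n; decide)).symm.mul_left
      (c10 n (by revert n; decide) (by revert n; decide)).symm) (by decide +kernel) rfl)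
  obtain ⟨κ1, h1, a1⟩ := h.ext zs (e5 ▸ d1)
  obtain ⟨κ2, h2, a2⟩ := h.ext zs (e5 ▸ d2)
  rw [← e5] at h a1 a2 ⊢
  have c1 : Commute (x 10) (x 5) := cm (by decide +kernel)
  have c2 : Commute (x 13) (x 5) := cm (by decide +kernel)
  have c3 : Commute (x 13) (x 10) := cm (by decide +kernel)
  obtain ⟨e, e1, e2, he⟩ := h1.agree h2 d1.1 d3 ((a2 _ c1 c3.symm).trans (a1 _ c1 rfl).symm)
    ((a2 _ c2 rfl).trans (a1 _ c2 c3).symm)
  obtain ⟨v, hv, ev⟩ := cent_tri (e := e) hx.2 d1 d2 d3 d4 fun y y1 y2 y3 => by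
    have := h1.inj _ _ ((e1.mul_left y2).mul_left e1.inv_left) y2
      ((he y y2 y3).symm.trans ((a2 y y1 y3).trans (a1 y y1 y2).symm))
    exact (mul_inv_eq_iff_eq_mul.1 this).symm
  have fx : ∀ y, Commute y (x 5) → Commute y (x 10) → cj v y = y := fun y y1 y2 => by
    rw [cj_apply, ← (hv.comm y1 y2).eq, mul_inv_cancel_right]
  have h3 := h1.pre (fx _ c1 rfl)
  let g : ℕ → G := fun n => if n = 4 then κ2 (x 4) else if n < 14 then κ (x n) else 1
  have g1 : ∀ n, n < 14 → n ≠ 4 → g n = κ (x n) := fun n a b => (if_neg b).trans (if_pos a)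
  have g2 : ∀ n, n < 14 → n ≠ 12 → g n = κ2 (x n) := fun n a b => by
    by_cases c : n = 4
    · rw [c]; rfl
    · rw [g1 n a c, a2 _ (c5 n a c) (c13 n a b)]
  have g3 : ∀ n, n < 14 → n ≠ 9 → g n = κ1 (cj v (x n)) := fun n a b => by
    by_cases c : n = 4
    · rw [g2 n a (by omega), he _ (c10 n a b) (c13 n a (by omega)), ev _ (c13 n a (by omega))]
    · rw [g1 n a c, fx _ (c5 n a c) (c10 n a b), a1 _ (c5 n a c) (c10 n a b)]
  have rel : ∀ R ∈ RM, H18.TC.ev g R = 1 := fun R hR => by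
    obtain ⟨l, c⟩ := (by decide +kernel : ∀ R ∈ RM, (∀ n ∈ R, n < 14) ∧
      ((∀ n ∈ R, n ≠ 4) ∨ (∀ n ∈ R, n ≠ 12) ∨ ∀ n ∈ R, n ≠ 9)) R hR
    rcases c with c | c | c
    · rw [(ev_emb h R fun n hn => ⟨c5 n (l n hn) (c n hn), g1 n (l n hn) (c n hn)⟩).2, hx.1.rel R hR, h.one]
    · rw [(ev_emb h2 R fun n hn => ⟨c13 n (l n hn) (c n hn), g2 n (l n hn) (c n hn)⟩).2, hx.1.rel R hR, h2.one]
    · rw [(ev_emb h3 R fun n hn => ⟨c10 n (l n hn) (c n hn), g3 n (l n hn) (c n hn)⟩).2, hx.1.rel R hR]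
      exact h3.one
  obtain ⟨φ, hφ⟩ := hx.lift (g := g) ⟨fun n => by
    by_cases a : n < 14
    · exact eq_inv_of_mul_eq_one_left (by
        simpa [H18.TC.ev] using rel [n, n] ((by decide +kernel : ∀ n < 14, [n, n] ∈ RM) n a))
    · rw [show g n = 1 from (if_neg (by omega)).trans (if_neg a), inv_one], rfl, rel⟩
  have e : ∀ y, Commute y (x 5) → φ y = κ y := fun y hy => by
    obtain ⟨f, -, hf⟩ := h.hom
    have m := hx.cent.ge (mem_cent_iff.2 hy)
    obtain ⟨z, hz, rfl⟩ := gsub_le (K := (MonoidHom.eqLocus (φ.comp (Subgroup.subtype _)) f).map (Subgroup.subtype _))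
      (fun n hn => by
        obtain ⟨a, b⟩ := (by decide : ∀ n ∈ fH, n < 14 ∧ n ≠ 4) n hn
        exact ⟨⟨_, mem_cent_iff.2 (c5 n a b)⟩, ((hφ n a).trans (g1 n a b)).trans
          (hf ⟨_, mem_cent_iff.2 (c5 n a b)⟩).symm, rfl⟩) m
    exact hz.trans (hf z)
  have := simple_GG
  refine ⟨φ, (MonoidHom.ker_eq_bot_iff φ).1 ((Normal.eq_bot_or_eq_top inferInstance).resolve_right fun q =>
    hx.2.ne_one (h.eq_one rfl ((e _ rfl).symm.trans (q.ge (mem_top _))))), fun y hy => ?_⟩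
  obtain ⟨z, hz, rfl⟩ := h.sur y (e _ rfl ▸ mem_centralizer_singleton_iff.1 hy)
  exact ⟨z, e z hz⟩

end H7.SM
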