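import Mathlib
import Cfsg.Agent.Lib.SE42.Basic
import Cfsg.Agent.S1911

/-!
# An elementary abelian group with many elements that fix one point each is normal (helper7)
-/

set_option autoImplicit false

namespace H7.SM

open Subgroup Cfsg

variable {X : Type*} [Group X]

/-- the conjugate of a subgroup -/
def Pc (P : Subgroup X) (a : X) : Subgroup X := P.comap (MulAut.conj a⁻¹).toMonoidHom

theorem mem_Pc {P : Subgroup X} {a x : X} : x ∈ Pc P a ↔ a⁻¹ * x * a ∈ P := by simp [Pc]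

theorem mem_Pc_one {P : Subgroup X} {x : X} : x ∈ Pc P 1 ↔ x ∈ P := by simp [Pc]

theorem mem_Pc_mul {P : Subgroup X} {a b x : X} : b * x * b⁻¹ ∈ Pc P (b * a) ↔ x ∈ Pc P a := by
  rw [mem_Pc, mem_Pc, show (b * a)⁻¹ * (b * x * b⁻¹) * (b * a) = a⁻¹ * x * a by group]

theorem dvd_of_stab {E Y : Type*} [Group E] [MulAction E Y] [Finite Y] {H : Subgroup E}
    (h : ∀ y : Y, MulAction.stabilizer E y = H) : H.index ∣ Nat.card Y := by
  classical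
  have := Fintype.ofFinite (MulAction.orbitRel.Quotient E Y)
  have : ∀ ω : MulAction.orbitRel.Quotient E Y, Finite (E ⧸ MulAction.stabilizer E ω.out) := fun ω =>
    Finite.of_equiv _ (MulAction.orbitEquivQuotientStabilizer E ω.out)
  rw [Nat.card_congr (MulAction.selfEquivSigmaOrbitsQuotientStabilizer E Y), Nat.card_sigma]
  exact Finset.dvd_sum fun ω _ => by rw [h]; rfl

/-- the local data -/
structure Bar (P N : Subgroup X) (S : Set X) : Prop where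
  sq : ∀ x ∈ P, x * x = 1
  le : P ≤ N
  norm : ∀ c ∈ N, ∀ x ∈ P, c * x * c⁻¹ ∈ P
  sub : ∀ s ∈ S, s ∈ P
  inv : ∀ c ∈ N, ∀ s ∈ S, c * s * c⁻¹ ∈ S
  uniq : ∀ s ∈ S, ∀ h, h * s * h⁻¹ ∈ N → h ∈ N
  card : ¬ 16 ∣ S.ncard
  clq : ∃ f : Fin 9 → X, (∀ i, f i ∈ P) ∧ ∀ i j, i ≠ j → f i * f j ∈ S
  nosub : ∀ U ≤ P, (∀ s ∈ S, s ∉ U) → (∀ v ∈ P, v ∉ U → ∀ v' ∈ P, v' ∉ U →
    ∃ n ∈ N, (∀ u ∈ U, n * u * n⁻¹ = u) ∧ n * v * n⁻¹ * v' ∈ U) → False

namespace Bar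

variable {P N : Subgroup X} {S : Set X} (h : Bar P N S)
include h

theorem P_sq {a x : X} (hx : x ∈ Pc P a) : x * x = 1 := by
  have := h.sq _ (mem_Pc.1 hx)
  calc x * x = a * (a⁻¹ * x * a * (a⁻¹ * x * a)) * a⁻¹ := by group
    _ = 1 := by rw [this]; group

theorem P_inv {a x : X} (hx : x ∈ Pc P a) : x⁻¹ = x := inv_eq_of_mul_eq_one_right (h.P_sq hx)

theorem P_comm {a x y : X} (hx : x ∈ Pc P a) (hy : y ∈ Pc P a) : Commute x y := by
  have := h.P_inv (mul_mem hx hy)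
  rw [mul_inv_rev, h.P_inv hx, h.P_inv hy] at this
  exact this.symm

theorem conj_P {a c x : X} (hc : c ∈ Pc N a) (hx : x ∈ Pc P a) : c * x * c⁻¹ ∈ Pc P a := by
  have := h.norm _ (mem_Pc.1 hc) _ (mem_Pc.1 hx)
  rw [mem_Pc]; convert this using 1; group

theorem P_N {a x : X} (hx : x ∈ Pc P a) : x ∈ Pc N a := h.le hx

theorem uniq' {a b y : X} (hy : a⁻¹ * y * a ∈ S) (e : y ∈ Pc N b) : b⁻¹ * a ∈ N :=
  h.uniq _ hy _ (by simpa [mul_assoc] using mem_Pc.1 e)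

omit h in
theorem card_inf (a b : X) : Nat.card ↥(Pc P a ⊓ Pc P b) = Nat.card ↥(Pc P (b⁻¹ * a) ⊓ Pc P 1) := by
  rw [← card_map_of_injective (f := (MulAut.conj b⁻¹).toMonoidHom) (MulAut.conj b⁻¹).injective]
  congr 2
  ext x
  rw [mem_map_equiv, mem_inf, mem_inf, ← mem_Pc_mul (b := b) (a := b⁻¹ * a), ← mem_Pc_mul (b := b) (a := 1),
    mul_inv_cancel_left, mul_one]
  simp

variable [Finite X] {m : ℕ} (hm : ∀ a ∉ N, Nat.card ↥(Pc P a ⊓ Pc P 1) ≤ m)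
include hm

theorem A1 {a b x y : X} (e : Nat.card ↥(Pc P a ⊓ Pc P b) = m) (xn : x ∉ Pc P b) (hy : y ∈ Pc P b)
    (hx : x ∈ Pc P a) (c : y * x * y⁻¹ ∈ Pc P a) : y ∈ Pc N a := by
  by_contra hn
  have h1 := (card_inf (y * a) a).trans_le (hm _ (mul_assoc a⁻¹ y a ▸ mt mem_Pc.2 hn))
  have le : Pc P a ⊓ Pc P b ≤ Pc P (y * a) ⊓ Pc P a := fun w hw =>
    ⟨by rw [← (h.P_comm hy hw.2).mul_inv_cancel]; exact mem_Pc_mul.2 hw.1, hw.1⟩
  have := (eq_of_le_of_card_ge le (e ▸ h1)).ge ⟨mem_Pc_mul.2 hx, c⟩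
  exact xn (by simpa [mul_assoc] using mul_mem (mul_mem (inv_mem hy) this.2) hy)

theorem nofix {a b x y : X} (n : b⁻¹ * a ∉ N) (e : Nat.card ↥(Pc P a ⊓ Pc P b) = m) (xn : x ∉ Pc P b)
    (hx : x ∈ Pc P a) (hy : b⁻¹ * y * b ∈ S) (c : y * x * y⁻¹ ∈ Pc P a) : False :=
  n (by simpa using inv_mem (h.uniq' hy (h.A1 hm e xn (mem_Pc.2 (h.sub _ hy)) hx c)))

theorem A2 {a b : X} (n : b⁻¹ * a ∉ N) (e : Nat.card ↥(Pc P a ⊓ Pc P b) = m) (f : Fin 9 → X)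
    (hf : ∀ i, f i ∈ Pc P a ⊓ Pc N b) : ∃ i j, i ≠ j ∧ f i * f j ∈ Pc P b := by
  let E := Pc P a ⊓ Pc N b
  let T : Set X := (fun v => b * v * b⁻¹) '' S
  have mT : ∀ {y}, y ∈ T ↔ b⁻¹ * y * b ∈ S := ⟨by rintro ⟨v, hv, rfl⟩; simpa [mul_assoc] using hv,
    fun hy => ⟨_, hy, by group⟩⟩
  let _ : MulAction E T :=
    { smul := fun u s => ⟨u.1 * s.1 * u.1⁻¹, mT.2 (by
        convert h.inv _ (mem_Pc.1 u.2.2) _ (mT.1 s.2) using 1; group)⟩
      one_smul := fun s => Subtype.ext (by show (1 : X) * s.1 * 1⁻¹ = _; simp)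
      mul_smul := fun u w s => Subtype.ext (by
        show u.1 * w.1 * s.1 * (u.1 * w.1)⁻¹ = u.1 * (w.1 * s.1 * w.1⁻¹) * u.1⁻¹; group) }
  have d := dvd_of_stab (E := E) (Y := T) (H := (Pc P b).subgroupOf E) fun s => by
    ext u
    refine ⟨fun hu => by_contra fun un => ?_, fun hu => Subtype.ext
      (h.P_comm hu (mem_Pc.2 (h.sub _ (mT.1 s.2)))).mul_inv_cancel⟩
    have c : u.1 * s.1 * u.1⁻¹ = s.1 := congrArg Subtype.val hu
    refine h.nofix hm n e (x := u.1) un u.2.1 (mT.1 s.2) ?_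
    rw [← mul_inv_eq_iff_eq_mul.1 c, mul_inv_cancel_right]
    exact u.2.1
  rw [Nat.card_coe_set_eq, Set.ncard_image_of_injective _ fun v w e => mul_left_cancel (mul_right_cancel e)] at d
  have : Fact (Nat.Prime 2) := ⟨Nat.prime_two⟩
  obtain ⟨k, hk⟩ := IsPGroup.index (show IsPGroup 2 E from fun u =>
    ⟨1, Subtype.ext (by simpa [pow_two] using h.P_sq u.2.1)⟩) ((Pc P b).subgroupOf E)
  have k3 : 2 ^ k ≤ 2 ^ 3 := Nat.pow_le_pow_right two_pos (by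
    by_contra k2
    exact h.card (((pow_dvd_pow 2 (show 4 ≤ k by omega)).trans hk.symm.dvd).trans d))
  have := Fintype.ofFinite (E ⧸ (Pc P b).subgroupOf E)
  obtain ⟨i, j, ij, q⟩ := Fintype.exists_ne_map_eq_of_card_lt
    (fun i => (QuotientGroup.mk ⟨f i, hf i⟩ : E ⧸ (Pc P b).subgroupOf E)) (by
      rw [← Nat.card_eq_fintype_card, ← index, hk, Fintype.card_fin]; omega)
  have : (f i)⁻¹ * f j ∈ Pc P b := QuotientGroup.eq (s := (Pc P b).subgroupOf E).1 q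
  exact ⟨i, j, ij, by rwa [h.P_inv (hf i).1] at this⟩

theorem A3 {a b x : X} (n : b⁻¹ * a ∉ N) (e : Nat.card ↥(Pc P a ⊓ Pc P b) = m) (hx : x ∈ Pc P a)
    (nx : x ∈ Pc N b) : x ∈ Pc P b := by
  by_contra xn
  have k0 : ∀ y ∈ Pc P b, y * (x * y * x⁻¹) ∈ Pc P b := fun y hy => mul_mem hy (h.conj_P nx hy)
  have k2 : ∀ y ∈ Pc P b, y * (x * y * x⁻¹) ∈ Pc N a := fun y hy => h.A1 hm e xn (k0 y hy) hx (by
    have : y * (x * y * x⁻¹) * x = x * (y * (x * y * x⁻¹)) := by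
      rw [show x * (y * (x * y * x⁻¹)) = x * y * x⁻¹ * (x * x) * y * x⁻¹ by group, h.P_sq hx, mul_one,
        ← (h.P_comm hy (h.conj_P nx hy)).eq]
      exact congrArg _ (h.P_inv hx).symm
    rwa [this, mul_inv_cancel_right])
  obtain ⟨f, f1, f2⟩ := h.clq
  have f3 : ∀ i, b * f i * b⁻¹ ∈ Pc P b := fun i => mem_Pc.2 (by simpa [mul_assoc] using f1 i)
  obtain ⟨i, j, ij, q⟩ := h.A2 hm (by simpa using fun c => n (by simpa using inv_mem c)) (inf_comm (Pc P a) _ ▸ e)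
    _ fun i => ⟨k0 _ (f3 i), k2 _ (f3 i)⟩
  refine h.nofix hm n e xn hx (y := b * f i * b⁻¹ * (b * f j * b⁻¹)) (by simpa [mul_assoc] using f2 i j ij) ?_
  have f4 := f3 i
  have f5 := f3 j
  generalize b * f i * b⁻¹ = u, b * f j * b⁻¹ = v at q f4 f5
  convert mul_mem q hx using 1
  rw [(h.P_comm (h.conj_P nx f4) f5).mul_mul_mul_comm, h.P_inv (mul_mem f4 f5)]
  group

omit hm in
theorem eq_top : N = ⊤ := by
  by_contra hN
  obtain ⟨a₀, ha₀⟩ : ∃ a, a ∉ N := by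
    by_contra hn
    push Not at hn
    exact hN (eq_top_iff.2 fun a _ => hn a)
  obtain ⟨a, ha, hm⟩ := Set.exists_max_image {a | a ∉ N} (fun a => Nat.card ↥(Pc P a ⊓ Pc P 1)) (Set.toFinite _) ⟨a₀, ha₀⟩
  set W := Pc P a ⊓ Pc P 1 with hW
  let M := centralizer (W : Set X)
  have PM : ∀ b, W ≤ Pc P b → Pc P b ≤ M := fun b hb x hx w hw => (h.P_comm (hb hw) hx).eq
  have nW : (W.subgroupOf M).Normal := ⟨fun w hw g => by
    show (g : X) * w * (g : X)⁻¹ ∈ W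
    rw [← g.2 w hw, mul_inv_cancel_right]; exact hw⟩
  have WP : ∀ g ∈ M, W ≤ Pc P g := fun g hg w hw => by
    rw [← mul_one g, ← mul_inv_cancel_right w g, hg w hw]; exact mem_Pc_mul.2 hw.2
  have eW : ∀ g ∈ M, g ∉ N → W = Pc P g ⊓ Pc P 1 := fun g hg n =>
    eq_of_le_of_card_ge (le_inf (WP g hg) inf_le_right) (hm g n)
  let π := QuotientGroup.mk' (W.subgroupOf M)
  let Q := ((Pc P 1).subgroupOf M).map π
  have memQ : ∀ x : M, π x ∈ Q ↔ (x : X) ∈ Pc P 1 := fun x => ⟨fun ⟨y, hy, e⟩ => by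
    have := (QuotientGroup.eq.1 e).2
    exact mul_inv_cancel_left (y : X) x ▸ mul_mem hy this, fun hx => ⟨x, hx, rfl⟩⟩
  obtain ⟨s, hs⟩ : ∃ s, s ∈ S := let ⟨_, _, f⟩ := h.clq; ⟨_, f 0 1 (by decide)⟩
  have m : ∀ {v}, v ∈ P → v ∈ M := fun hv => PM 1 inf_le_right (mem_Pc_one.2 hv)
  have sP := h.sub s hs
  have memN : ∀ x : M, π x ∈ normalizer (Q : Set _) ↔ (x : X) ∈ N := fun x => by
    refine ⟨fun hx => h.uniq s hs _ ?_, fun hx => ?_⟩
    · have := (hx (π ⟨_, m sP⟩)).1 ((memQ _).2 (mem_Pc_one.2 sP))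
      rw [← map_inv, ← map_mul, ← map_mul, SetLike.mem_coe, memQ] at this
      exact h.le (mem_Pc_one.1 this)
    · intro q
      obtain ⟨y, rfl⟩ := QuotientGroup.mk'_surjective _ q
      rw [← map_inv, ← map_mul, ← map_mul, SetLike.mem_coe, SetLike.mem_coe, memQ, memQ]
      refine ⟨h.conj_P (mem_Pc_one.2 hx), fun c => ?_⟩
      simpa [mul_assoc] using h.conj_P (c := (x : X)⁻¹) (mem_Pc_one.2 (inv_mem hx)) c
  have triv : ∀ g, g ∉ normalizer (Q : Set _) → Q.map (MulAut.conj g).toMonoidHom ⊓ normalizer (Q : Set _) = ⊥ := by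
    intro g hg
    obtain ⟨g, rfl⟩ := QuotientGroup.mk'_surjective _ g
    rw [memN] at hg
    refine eq_bot_iff.2 ?_
    rintro _ ⟨⟨_, ⟨y, hy, rfl⟩, rfl⟩, c⟩
    have c' : π (g * y * g⁻¹) ∈ normalizer (Q : Set _) := c
    rw [memN] at c'
    have m : (g : X) * y * (g : X)⁻¹ ∈ Pc P g := by simpa using (mem_Pc_mul (b := (g : X))).2 hy
    exact (QuotientGroup.eq_one_iff (g * y * g⁻¹)).2 ((eW g g.2 hg).ge ⟨m, h.A3 hm (by simpa using hg)
      (congrArg (fun K : Subgroup X => Nat.card K) (eW g g.2 hg).symm) m (mem_Pc_one.2 c')⟩)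
  have nS : ∀ v ∈ S, v ∉ W := fun v hv c => ha (by
    simpa using inv_mem (h.uniq' (a := 1) (by simpa using hv) (h.P_N c.1)))
  have ord : ∀ v (hv : v ∈ P), v ∉ W → orderOf (π ⟨_, m hv⟩) = 2 := fun v hv n => orderOf_eq_prime
    (by rw [← map_pow, show (⟨v, m hv⟩ : M) ^ 2 = 1 from Subtype.ext (by simpa [pow_two] using h.sq v hv), map_one])
    fun e => n ((QuotientGroup.eq_one_iff (⟨_, m hv⟩ : M)).1 e)
  have q : ∀ {v} (hv : v ∈ P), π ⟨_, m hv⟩ ∈ Q := fun hv => (memQ _).2 (mem_Pc_one.2 hv)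
  rcases Cfsg.Agent.S1911.result Q ⟨(even_iff_two_dvd).2 ((ord s sP (nS s hs)).symm.dvd.trans (orderOf_dvd_natCard Q
      (q sP))), fun g hg => by
        rw [show Q ⊓ Q.map (MulAut.conj g).toMonoidHom = ⊥ from eq_bot_iff.2 fun x hx =>
          (triv g hg).le ⟨hx.2, le_normalizer hx.1⟩]; simp⟩ (fun g hg => by rw [triv g hg]; simp) with hn | se
  · have m : a * s * a⁻¹ ∈ M := PM a inf_le_left (mem_Pc.2 (by simpa [mul_assoc] using sP))
    exact ha (h.uniq s hs a ((memN ⟨_, m⟩).1 ((normalizer_eq_top Q).ge (mem_top _))))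
  refine h.nosub W (fun w hw => mem_Pc_one.1 hw.2) nS fun v hv nv v' hv' nv' => ?_
  have o : ∀ v (hv : v ∈ P), v ∉ W →
      orderOf (⟨π ⟨_, m hv⟩, le_normalClosure (q hv)⟩ : normalClosure (Q : Set (M ⧸ W.subgroupOf M))) = 2 :=
    fun v hv n => (orderOf_mk _ _).trans (ord v hv n)
  obtain ⟨⟨k, hk⟩, e⟩ := isConj_iff.1 (H42.SE.isConj se (o v hv nv) (o v' hv' nv'))
  have kN := H9.IsStronglyEmbedded.mem_of_conj_mem se (t := ⟨_, le_normalClosure (q hv)⟩) (le_normalizer (q hv))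
    (o v hv nv) (by rw [e]; exact le_normalizer (q hv'))
  obtain ⟨k, rfl⟩ := QuotientGroup.mk'_surjective _ k
  have kN' := (memN k).1 kN
  refine ⟨k, kN', fun w hw => by rw [← k.2 _ hw, mul_inv_cancel_right], ?_⟩
  have e' : π (k * ⟨_, m hv⟩ * k⁻¹) = π ⟨_, m hv'⟩ := congrArg Subtype.val e
  rw [← inv_eq_of_mul_eq_one_right (h.sq _ (h.norm _ kN' _ hv))]
  exact QuotientGroup.eq (s := W.subgroupOf M).1 e'

end Bar

theorem eqns_Bar : True := by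
  have := @Pc.eq_1.{0}
  trivial

end H7.SM
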