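import Mathlib
import Cfsg.Agent.Lib.StdM.Amal
import Cfsg.Agent.Lib.StdM.Bar
import Cfsg.Agent.Lib.MRec.Top

/-!
# A subgroup isomorphic to the Monster that contains the centraliser of a short involution (helper7)
-/

set_option autoImplicit false

namespace H7.SM

open Subgroup Cfsg H95 H95.Gr H16 QuadraticMap

theorem la_five {V : Type*} [AddCommGroup V] [Module (ZMod 2) V] (q : QuadraticForm (ZMod 2) V)
    (nd : ∀ v, (∀ w, polar q v w = 0) → v = 0) (U : Submodule (ZMod 2) V)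
    (h : ∀ v ∉ U, ∀ v' ∉ U, ∃ w, q w = q v ∧ w + v' ∈ U ∧ ∀ u ∈ U, polar q w u = polar q v u)
    (f : Fin 5 → V) : ∃ i j, i ≠ j ∧ f i + f j ∈ U := by
  by_contra! hf
  have s : ∀ v : V, v + v = 0 := vec2_add_self
  let R : Submodule (ZMod 2) V := LinearMap.BilinForm.orthogonal (polarBilin q) U
  have mR : ∀ {r}, r ∈ R ↔ ∀ u ∈ U, polar q r u = 0 := forall₂_congr fun u _ => by rw [polar_comm]; rfl
  have A : ∀ v ∉ U, ∀ v' ∉ U, ∃ r ∈ R, v + v' + r ∈ U := fun v hv v' hv' => by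
    obtain ⟨w, -, a, b⟩ := h v hv v' hv'
    exact ⟨v + w, mR.2 fun u hu => by rw [polar_add_left, b u hu, zmod2_add_self], by
      rwa [add_add_add_comm, s, zero_add, add_comm]⟩
  have T : ∀ v, ∃ r ∈ R, v + r ∈ U := fun v => by
    by_cases hv : v ∈ U
    · exact ⟨0, zero_mem _, by rwa [add_zero]⟩
    obtain ⟨r, a, b⟩ := A _ (hf 0 1 (by decide)) _ (hf 1 2 (by decide))
    obtain ⟨r', a', b'⟩ := A v hv _ (hf 0 2 (by decide))
    refine ⟨r + r', add_mem a a', ?_⟩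
    convert add_mem b b' using 1
    rw [← add_zero (v + _), ← s (f 0 + f 1 + f 2)]; abel
  have Z : ∀ r ∈ R, (∀ r' ∈ R, polar q r r' = 0) → r = 0 := fun r hr k => nd r fun w => by
    obtain ⟨r', a, b⟩ := T w
    have := mR.1 hr _ b
    rwa [polar_add_right, k r' a, add_zero] at this
  have Z' : ∀ r ∈ R, r ∈ U → r = 0 := fun r hr hu => Z r hr fun r' a => by rw [polar_comm, mR.1 a r hu]
  have E : ∀ r ∈ R, r ∉ U → ∀ r' ∈ R, r' ∉ U → q r' = q r := fun r hr hu r' hr' hu' => by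
    obtain ⟨w, a, b, c⟩ := h r hu r' hu'
    have := Z' _ (add_mem (mR.2 fun u hu => (c u hu).trans (mR.1 hr u hu)) hr') b
    rwa [← add_right_cancel (this.trans (s r').symm)]
  choose r r1 r2 using fun i => T (f 0 + f i)
  have n2 : ∀ i j, i ≠ j → r i + r j ∉ U := fun i j n m => hf i j n (by
    convert add_mem (add_mem (r2 i) (r2 j)) m using 1
    rw [← add_zero (f i + _), ← s (f 0 + r i + r j)]; abel)
  have n1 : ∀ i, 0 ≠ i → r i ∉ U := fun i n m => hf 0 i n ((U.add_mem_iff_left m).1 (r2 i))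
  have k : ∀ i, 0 ≠ i → 1 ≠ i → 2 ≠ i → r 1 + r 2 + r i ∉ U → q (r 1) = 0 := fun i a b c d => by
    have := map_add_add_add_map q (r 1) (r 2) (r i)
    have e := E _ (r1 1) (n1 1 (by decide))
    rw [e _ (add_mem (add_mem (r1 1) (r1 2)) (r1 i)) d, e _ (r1 2) (n1 2 (by decide)), e _ (r1 i) (n1 i a),
      e _ (add_mem (r1 1) (r1 2)) (n2 1 2 (by decide)), e _ (add_mem (r1 2) (r1 i)) (n2 2 i c),
      e _ (add_mem (r1 i) (r1 1)) (n2 i 1 b.symm)] at this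
    exact add_eq_right.1 this
  have q0 : q (r 1) = 0 := by
    by_cases a : r 1 + r 2 + r 3 ∈ U
    · refine k 4 (by decide) (by decide) (by decide) fun b => n2 3 4 (by decide) ?_
      convert add_mem a b using 1
      rw [← add_zero (r 3 + _), ← s (r 1 + r 2)]; abel
    · exact k 3 (by decide) (by decide) (by decide) a
  have q1 : ∀ x ∈ R, q x = 0 := fun x hx => by
    by_cases a : x ∈ U
    · rw [Z' x hx a, map_zero]
    · exact (E _ (r1 1) (n1 1 (by decide)) x hx a).trans q0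
  refine n1 1 (by decide) ?_
  rw [Z _ (r1 1) fun x hx => by rw [polar, q1 _ (add_mem (r1 1) hx), q0, q1 x hx, sub_zero, sub_zero]]
  exact zero_mem _

theorem es_five {G : Type*} [Group G] {Q U : Subgroup G} {z : G} (h : ES Q z) (hz : z ∈ U)
    (H : ∀ v ∈ Q, v ∉ U → ∀ v' ∈ Q, v' ∉ U → ∃ c, c * v * c⁻¹ ∈ Q ∧ c * v * c⁻¹ * v' ∈ U ∧
      ∀ u ∈ U, c * u * c⁻¹ = u ∨ c * u * c⁻¹ = u * z) (f : Fin 5 → G) (hf : ∀ i, f i ∈ Q) :
    ∃ i j, i ≠ j ∧ f i * f j ∈ U := by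
  obtain ⟨V, _, _, ⟨P⟩⟩ := h.top.exists_pres
  have h1 : ∀ x : Q, P.π x ∈ P.image (U.subgroupOf Q) ↔ (x : G) ∈ U := fun x => ⟨by
    rintro ⟨a, ha, e⟩
    rcases P.eq_iff'.1 e with e | e <;> rw [e]
    exacts [ha, mul_mem ha hz], fun hx => ⟨x, hx, rfl⟩⟩
  have two : ∀ {a b : ZMod 2}, (a = 0 ↔ b = 0) → a = b := by decide
  obtain ⟨i, j, n, m⟩ := la_five P.q (P.nondeg_of_ES h.top) (P.image (U.subgroupOf Q)) (fun v hv v' hv' => by
    obtain ⟨x, rfl⟩ := P.surj v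
    obtain ⟨y, rfl⟩ := P.surj v'
    obtain ⟨c, a1, a2, a3⟩ := H x x.2 (mt (h1 x).2 hv) y y.2 (mt (h1 y).2 hv')
    refine ⟨P.π ⟨_, a1⟩, two ?_, by rw [← P.π_mul, h1]; exact a2, ?_⟩
    · rw [← P.sq_eq_one_iff, ← P.sq_eq_one_iff, Subtype.ext_iff, Subtype.ext_iff]
      simp
    rintro _ ⟨u, hu, rfl⟩
    refine two ?_
    rw [← P.commute_iff, ← P.commute_iff, Subtype.ext_iff, Subtype.ext_iff]
    change Commute (c * x * c⁻¹) u ↔ Commute (x : G) u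
    refine Iff.trans ?_ ⟨fun k : Commute (MulAut.conj c x) (MulAut.conj c u) => k.of_map (MulAut.conj c).injective,
      fun k => k.map _⟩
    rcases a3 u hu with e | e <;> rw [MulAut.conj_apply, MulAut.conj_apply, e]
    have k : Commute (c * x * c⁻¹) z := h.central _ a1
    exact ⟨fun l => l.mul_right k, fun l => by simpa using l.mul_right k.inv_right⟩) fun i => P.π ⟨f i, hf i⟩
  exact ⟨i, j, n, (h1 (⟨f i, hf i⟩ * ⟨f j, hf j⟩)).1 (P.π_mul _ _ ▸ m)⟩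

theorem exists_clq : ∃ f : Fin 9 → GG, (∀ i, f i ∈ QQ ℝ) ∧ ∀ i j, i ≠ j → IX (f i * f j) := by
  choose f hf using fun i : Fin 9 => mon.ex_elt (vB none (some (i : ℕ)))
  refine ⟨f, fun i => mon.mem (hf i), fun i j n => ix32 (v := vB none (some (i : ℕ)) - vB none (some (j : ℕ)))
    (mon.congr (mon.add (hf i) (hf j)) ?_) ?_⟩
  · rw [sub_eq_add_neg]; exact (Cg.refl _).add (cg_neg _)
  · revert i j; decide +kernel

theorem bar_of {X : Type*} [Group X] (ρ : centralizer ({zA} : Set GG) →* X)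
    (ker : ∀ c, ρ c = 1 ↔ c.1 = 1 ∨ c.1 = zA)
    (u : ∀ c, IX c.1 → ∀ h, h * ρ c * h⁻¹ ∈ ρ.range → h ∈ ρ.range) :
    Bar (((QQ ℝ).subgroupOf _).map ρ) ρ.range (ρ '' {c | c.1 ∈ QQ ℝ ∧ IX c.1}) := by
  have eq : ∀ {a b}, ρ a = ρ b ↔ a.1 = b.1 ∨ a.1 = b.1 * zA := fun {a b} => by
    rw [eq_comm, ← inv_mul_eq_one, ← map_inv, ← map_mul, ker, coe_mul, coe_inv, inv_mul_eq_iff_eq_mul,
      inv_mul_eq_iff_eq_mul, mul_one]
  have nQ : ∀ (c : centralizer ({zA} : Set GG)) x, x ∈ QQ ℝ → c * x * (c : GG)⁻¹ ∈ QQ ℝ := fun c x hx =>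
    H75.WC.conj_mem l3_QQ (mem_cent_iff.1 c.2) hx
  obtain ⟨f, f1, f2⟩ := exists_clq
  have f3 := fun i => es_QQ.le_centralizer (f1 i)
  refine ⟨?_, map_le_range _ _, ?_, ?_, ?_, ?_, ?_, ⟨fun i => ρ ⟨_, f3 i⟩, fun i => ⟨_, f1 i, rfl⟩,
    fun i j n => ⟨⟨_, f3 i⟩ * ⟨_, f3 j⟩, ⟨mul_mem (f1 i) (f1 j), f2 i j n⟩, map_mul _ _ _⟩⟩, fun U hU hS H => ?_⟩
  · rintro _ ⟨x, hx, rfl⟩
    rw [← map_mul, ker]; exact es_QQ.sq_mem hx
  · rintro _ ⟨c, rfl⟩ _ ⟨x, hx, rfl⟩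
    exact ⟨c * x * c⁻¹, nQ c x hx, by simp⟩
  · rintro _ ⟨x, hx, rfl⟩
    exact ⟨x, hx.1, rfl⟩
  · rintro _ ⟨c, rfl⟩ _ ⟨x, hx, rfl⟩
    exact ⟨c * x * c⁻¹, ⟨nQ c x hx.1, hx.2.conj c⟩, by simp⟩
  · rintro _ ⟨x, hx, rfl⟩
    exact u x hx.2
  · rw [show ρ '' {c | c.1 ∈ QQ ℝ ∧ IX c.1} = Set.range fun r : RR => ρ ⟨_, es_QQ.le_centralizer (qa_mem 0 r.1)⟩ from ?_,
      Set.ncard_range_of_injective fun r s e => ?_, Nat.card_eq_fintype_card, card_RR]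
    · norm_num
    · rcases eq.1 e with e | e
      · exact Subtype.ext (qa_inj.1 e).2
      · exact Subtype.ext (qa_inj.1 (e.trans (qa_mul_z _ _))).2
    refine Set.ext fun y => ⟨?_, by rintro ⟨r, rfl⟩; exact ⟨_, ⟨qa_mem 0 r.1, ix_qa 0 r⟩, rfl⟩⟩
    rintro ⟨x, hx, rfl⟩
    obtain ⟨s, r, e⟩ := hx.2.eq_qa hx.1
    refine ⟨r, (eq.2 ?_).symm⟩
    rcases H95.zmod2_cases s with rfl | rfl
    exacts [Or.inl e, Or.inr (e.trans (qa_mul_z 0 _).symm)]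
  · obtain ⟨i, j, n, m⟩ := es_five (U := U.comap ρ) (es_QQ.subgroupOf es_QQ.le_centralizer)
      (by rw [mem_comap, (ker _).2 (Or.inr rfl)]; exact one_mem _) (fun v hv v1 w hw w1 => by
        obtain ⟨_, ⟨c, rfl⟩, a, b⟩ := H _ ⟨v, hv, rfl⟩ v1 _ ⟨w, hw, rfl⟩ w1
        exact ⟨c, nQ c v hv, by simpa using b, fun y hy => (eq.1 (show ρ (c * y * c⁻¹) = ρ y by
          simpa using a _ hy)).imp Subtype.ext Subtype.ext⟩)
      (fun i => ⟨_, f3 (i.castLE (by norm_num))⟩) fun i => f1 _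
    exact hS _ ⟨_, ⟨mul_mem (f1 _) (f1 _), f2 _ _ fun e => n (Fin.castLE_injective _ e)⟩, rfl⟩ m

theorem range_top {G : Type*} [Group G] [Finite G] {φ : GG →* G} (inj : Function.Injective φ)
    (hC : centralizer {φ t0} ≤ φ.range) : φ.range = ⊤ := by
  have E : Emb t0 φ := ⟨fun x y _ _ => map_mul φ x y, fun x y _ _ e => inj e, fun g hg =>
    let ⟨x, e⟩ := hC (mem_centralizer_singleton_iff.2 hg); ⟨x, (e ▸ hg : Commute (φ x) (φ t0)).of_map inj, e⟩⟩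
  have cv : ∀ {x y}, IsConj x y → IsConj (φ x) (φ y) := fun h => φ.map_isConj h
  have uq : ∀ x, IX x → ∀ g, g * φ x * g⁻¹ ∈ φ.range → g ∈ φ.range := fun x hx g ⟨y, e⟩ => by
    have i : IsConj (φ t0) (φ y) := (cv hx).trans (isConj_iff.2 ⟨g, e.symm⟩)
    obtain ⟨d, rfl⟩ := ((H96.MRec.two_classes (x := y) (inj (by rw [map_mul, e, conj_mul, ← map_mul, hx.sq]; simp))
      fun f => hx.ne_one (inj (by simpa [f] using e.symm))).resolve_right fun j =>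
        not_iz (E.ix ix_t0 tz.symm (i.trans (cv j).symm)) iz_z).ex
    obtain ⟨c, rfl⟩ := hx.ex
    have : (φ d)⁻¹ * g * φ c ∈ φ.range := hC (mem_centralizer_singleton_iff.2 (by
      simp only [cj_apply, map_mul, map_inv] at e
      rw [← mul_inv_eq_iff_eq_mul]
      calc _ = (φ d)⁻¹ * (g * (φ c * φ t0 * (φ c)⁻¹) * g⁻¹) * φ d := by group
        _ = _ := by rw [← e]; group))
    rwa [mul_mem_cancel_right (show φ c ∈ φ.range from ⟨c, rfl⟩),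
      mul_mem_cancel_left (inv_mem (show φ d ∈ φ.range from ⟨d, rfl⟩))] at this
  refine H96.MRec.range_eq_top inj fun g hg => ?_
  have := H18.YG.normal_zp (φ zA)
  let p := QuotientGroup.mk' ((zpowers (φ zA)).subgroupOf (centralizer {φ zA}))
  have ker : ∀ x, p x = 1 ↔ (x : G) = 1 ∨ (x : G) = φ zA := fun x => by
    rw [QuotientGroup.mk'_apply, QuotientGroup.eq_one_iff, mem_subgroupOf,
      mem_zpowers_iff_of_sq (by rw [← map_mul, es_QQ.sq, map_one])]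
  let ψ : centralizer ({zA} : Set GG) →* centralizer {φ zA} := (φ.comp (Subgroup.subtype _)).codRestrict _ fun c =>
    mem_cent_iff.2 ((show Commute (c : GG) zA from mem_cent_iff.1 c.2).map φ)
  have rg : ∀ x, p x ∈ (p.comp ψ).range ↔ (x : G) ∈ φ.range := fun x => ⟨fun ⟨c, e⟩ => by
    rw [MonoidHom.comp_apply, ← inv_mul_eq_one, ← map_inv, ← map_mul, ker] at e
    rw [← mul_mem_cancel_left (inv_mem (show (ψ c : G) ∈ φ.range from ⟨c, rfl⟩))]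
    rw [coe_mul, coe_inv] at e
    rcases e with e | e <;> rw [e]
    exacts [one_mem _, ⟨_, rfl⟩], fun ⟨c, e⟩ => ⟨⟨c, mem_cent_iff.2 (Commute.of_map inj
      (e ▸ mem_cent_iff.1 x.2 : Commute (φ c) (φ zA)))⟩, congrArg p (Subtype.ext e)⟩⟩
  refine (rg ⟨g, hg⟩).1 ((bar_of (p.comp ψ) (fun c => (ker _).trans (or_congr (map_eq_one_iff φ inj) inj.eq_iff))
    fun c hc h e => ?_).eq_top.ge (mem_top _))
  obtain ⟨h, rfl⟩ := QuotientGroup.mk'_surjective _ h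
  exact (rg h).2 (uq c hc h ((rg (h * ψ c * h⁻¹)).1 (by rw [map_mul, map_mul, map_inv]; exact e)))

end H7.SM
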