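import Mathlib
import Cfsg.Prelude.Def_Local
import Cfsg.Agent.Lib.StdM.Top
import Cfsg.Agent.Lib.YB.Iso
import Cfsg.Agent.Lib.YB.Mult
import Cfsg.Agent.Lib.MonSC.Iso
import Cfsg.Agent.Lib.TwoFusion.ZStarIso
import Cfsg.Agent.S2084

/-!
# The centraliser of a standard double cover of the Baby Monster has order two (helper7)
-/

set_option autoImplicit false

namespace H7.SM

open Subgroup Cfsg H95 H95.Gr

theorem perfect_HH : commutator HH = ⊤ := by
  have k : ∀ {x y}, Commute x t0 → Commute y t0 → x * y * x⁻¹ * y⁻¹ ∈ (commutator HH).map HH.subtype := fun hx hy =>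
    ⟨_, commutator_mem_commutator (mem_top ⟨_, mem_cent_iff.2 hx⟩) (mem_top ⟨_, mem_cent_iff.2 hy⟩), rfl⟩
  refine eq_top_iff.2 fun x _ => (mem_map_iff_mem HH.subtype_injective).1 (HH_le ?_ ?_ ?_ x.2)
  · rintro c hc _ ⟨y, hy, rfl⟩
    exact ⟨_, (inferInstance : (commutator HH).Normal).conj_mem y hy ⟨c, hc⟩, rfl⟩
  · obtain ⟨s, c, -, sQ, n1, n2, hc, e, -⟩ := exists_s0
    have i : IZ s := iz_cj.1 (e ▸ iz_z)
    have st : Commute s t0 := Commute.of_map (cj c).injective (by rw [e, mem_HH.1 hc]; exact tz.symm)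
    by_contra n
    rcases v4_of_cent sQ fun y hy yt => (es_QQ.commutator_eq hy sQ).elim
      (fun q => by rwa [mul_inv_eq_one, mul_inv_eq_iff_eq_mul] at q) fun q => absurd (q ▸ k yt st) n with q | q | q | q
    exacts [i.ne_one q, not_iz ix_t0 (q ▸ i), n1 q, n2 (q.trans tz.eq)]
  · obtain ⟨x, y, hx, hy, e⟩ := exists_sq
    have := k (hx.comm ix_t0).symm (hy.comm ix_t0).symm
    rwa [hx.1.inv, hy.1.inv, mul_assoc, ← pow_two, e] at this

theorem exists_piB : ∃ σ : HH →* Spor.BabyMonster, Function.Surjective σ ∧ σ.ker = center HH := by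
  obtain ⟨f⟩ := H18.YB.iso
  exact ⟨f.symm.toMonoidHom.comp piB, f.symm.surjective.comp (QuotientGroup.mk'_surjective _), by
    rw [MonoidHom.ker_comp_of_injective _ _ f.symm.injective, QuotientGroup.ker_mk', center_HH]⟩

theorem inner_HH (β : MulAut HH) : ∃ e, ∀ x, β x = e * x * e⁻¹ := by
  obtain ⟨σ, s, k⟩ := exists_piB
  exact inner_of_out perfect_HH σ s (fun x => k ▸ Iff.rfl) Agent.S2084.result β

theorem cover_HH {L : Type*} [Group L] [Finite L] (hp : commutator L = ⊤) (h2 : Nat.card (center L) = 2)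
    (e : L ⧸ center L ≃* Spor.BabyMonster) : Nonempty (HH ≃* L) := by
  obtain ⟨σ, s, k⟩ := exists_piB
  have k' : (e.toMonoidHom.comp (QuotientGroup.mk' _)).ker = center L := by
    rw [MonoidHom.ker_comp_of_injective _ _ e.injective, QuotientGroup.ker_mk']
  exact cover_unique σ _ s (e.surjective.comp (QuotientGroup.mk'_surjective _)) k.le k'.le perfect_HH hp
    (by rw [k, center_HH, card_t0]) (by rw [k', h2]) fun _ _ h => H18.YB.card_ker_le h

/-- the central involution -/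
noncomputable abbrev T0 : HH := ⟨t0, mem_cent_iff.2 rfl⟩

theorem comm_T0 (x : HH) : Commute x T0 := Subtype.ext (mem_cent_iff.1 x.2)

variable {G : Type*} [Group G]

theorem eq_one_of_odd {y : G} (h : Odd (orderOf y)) (e : y ^ 4 = 1) : y = 1 :=
  orderOf_eq_one_iff.1 (Nat.Coprime.eq_one_of_dvd (show (orderOf y).Coprime 4 from
    (Nat.coprime_two_right.2 h).pow_right 2) (orderOf_dvd_of_pow_eq_one e))

theorem comm_conj {g x y : G} : Commute (g⁻¹ * x * g) y ↔ Commute x (g * y * g⁻¹) :=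
  ⟨fun h => by simpa [mul_assoc] using h.map (MulAut.conj g), fun h => by
    simpa [mul_assoc] using h.map (MulAut.conj g⁻¹)⟩

/-- a standard double cover of the Baby Monster with its centraliser -/
structure Sd (κ : HH →* G) (K : Subgroup G) : Prop where
  inj : Function.Injective κ
  cen : ∀ x, ∀ k ∈ K, Commute (κ x) k
  tK : κ T0 ∈ K
  inf : ∀ x, κ x ∈ K → x = 1 ∨ x = T0
  dec : ∀ g, Commute g (κ T0) → ∃ x, ∃ k ∈ K, g = κ x * k
  ti : ∀ u ∈ K, u ≠ 1 → u * u = 1 → ∀ g, g * u * g⁻¹ ∈ K → Commute g (κ T0)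

namespace Sd
variable {κ : HH →* G} {K : Subgroup G} (h : Sd κ K)
include h

omit h in
theorem tt : κ T0 * κ T0 = 1 := by rw [← map_mul, show T0 * T0 = 1 from Subtype.ext t0_sq, map_one]

theorem t1 : κ T0 ≠ 1 := fun e => ix_t0.ne_one (congrArg Subtype.val ((map_eq_one_iff κ h.inj).1 e))

theorem nrm {g k : G} (hg : Commute g (κ T0)) (hk : k ∈ K) : g * k * g⁻¹ ∈ K := by
  obtain ⟨x, l, hl, rfl⟩ := h.dec g hg
  have m := mul_mem (mul_mem hl hk) (inv_mem hl)
  rwa [show κ x * l * k * (κ x * l)⁻¹ = κ x * (l * k * l⁻¹) * (κ x)⁻¹ by group, (h.cen x _ m).eq, mul_inv_cancel_right]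

theorem sq {x : HH} {k : G} (hk : k ∈ K) : κ x * k * (κ x * k) = κ (x * x) * (k * k) := by
  rw [(h.cen x k hk).symm.mul_mul_mul_comm, map_mul]

theorem sq_cases {x : HH} {k : G} (hk : k ∈ K) (e : κ x * k * (κ x * k) = 1) :
    x * x = 1 ∧ k * k = 1 ∨ k * k = κ T0 := by
  rw [h.sq hk] at e
  refine (h.inf _ (eq_inv_of_mul_eq_one_left e ▸ inv_mem (mul_mem hk hk))).imp (fun f => ⟨f, ?_⟩) fun f => ?_ <;>
    rw [f] at e
  exacts [by simpa using e, mul_left_cancel (e.trans tt.symm)]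

variable [Finite G]

theorem odd_card {g : G} (ng : ¬ Commute g (κ T0)) :
    Odd (Nat.card (K ⊓ K.comap (MulAut.conj g).toMonoidHom : Subgroup G)) := Nat.not_even_iff_odd.1 fun e => by
  obtain ⟨⟨u, hu⟩, ou⟩ := exists_prime_orderOf_dvd_card' 2 e.two_dvd
  rw [← orderOf_coe] at ou
  exact ng (h.ti u hu.1 (ne_one_of_orderOf_eq_two ou) (mul_self_of_orderOf_eq_two ou) g hu.2)

theorem odd {g y : G} (ng : ¬ Commute g (κ T0)) (h1 : y ∈ K) (h2 : g * y * g⁻¹ ∈ K) : Odd (orderOf y) :=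
  (h.odd_card ng).of_dvd_nat (Subgroup.orderOf_dvd_natCard _ ⟨h1, h2⟩)

theorem exists_inv (zs : ∃ g : G, g * κ T0 * g⁻¹ ≠ κ T0 ∧ Commute (g * κ T0 * g⁻¹) (κ T0)) :
    ∃ g, ¬ Commute g (κ T0) ∧ ∃ l, ∃ k ∈ K, g * κ T0 * g⁻¹ = κ l * k ∧ l * l = 1 := by
  by_contra! H
  have P : ∀ m, ∃ g, ¬ Commute g (κ T0) ∧ ∃ v ∈ K, Commute v (g * κ T0 * g⁻¹) ∧ v ^ 2 ^ m = κ T0 := fun m => by
    induction m with
    | zero =>
      obtain ⟨g, n, c⟩ := zs
      exact ⟨g, fun e => n (by rw [e.eq, mul_inv_cancel_right]), _, h.tK, c.symm, pow_one _⟩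
    | succ m ih =>
      obtain ⟨g, n, v, -, c, e⟩ := ih
      obtain ⟨l, k, hk, f⟩ := h.dec _ (comm_conj.2 c)
      have f' : g⁻¹ * κ T0 * g⁻¹⁻¹ = κ (l ^ 2 ^ m) * k ^ 2 ^ m := by
        rw [map_pow, ← (h.cen l k hk).mul_pow, ← f, ← e, ← conj_pow, inv_inv]
      have n' : ¬ Commute g⁻¹ (κ T0) := fun e => n (Commute.inv_left_iff.1 e)
      refine ⟨g⁻¹, n', k, hk, f' ▸ (h.cen _ k hk).symm.mul_right (Commute.self_pow _ _), ?_⟩
      rw [pow_succ, pow_mul, pow_two]
      exact (h.sq_cases (pow_mem hk _) (by rw [← f', conj_mul, tt]; simp)).resolve_left fun q =>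
        H _ n' _ _ (pow_mem hk _) f' q.1
  obtain ⟨-, -, v, -, -, e⟩ := P (Nat.card G)
  have : Fact (Nat.Prime 2) := ⟨Nat.prime_two⟩
  have o := orderOf_eq_prime_pow (e ▸ h.t1) (by rw [pow_succ, pow_mul, e, pow_two, tt])
  have := o ▸ _root_.orderOf_le_card (x := v)
  have := Nat.lt_two_pow_self (n := Nat.card G + 1)
  omega

variable {g k : G} {l : HH} (ng : ¬ Commute g (κ T0)) (hk : k ∈ K) (e : g * κ T0 * g⁻¹ = κ l * k) (ll : l * l = 1)
include ng hk e

omit [Finite G] ng in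
theorem cs {x : HH} : Commute (g⁻¹ * κ x * g) (κ T0) ↔ Commute x l := by
  rw [comm_conj, e]
  exact ⟨fun c => Commute.of_map h.inj (by simpa using c.mul_right (h.cen x k hk).inv_right),
    fun c => (c.map κ).mul_right (h.cen x k hk)⟩

include ll

theorem small {w : HH} {k' : G} (hk' : k' ∈ K) (m : g⁻¹ * (κ w * k') * g ∈ K) (c : Commute w l) :
    κ w * k' ∈ K ∨ κ w * k' * (g * κ T0 * g⁻¹) ∈ K := by
  have ng' : ¬ Commute g⁻¹ (κ T0) := fun e => ng (Commute.inv_left_iff.1 e)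
  have nK : κ l ∉ K := fun q => ng (h.ti _ h.tK h.t1 tt g (e ▸ mul_mem q hk))
  have l1 : (l : GG) ≠ 1 := fun q => nK (by rw [show l = 1 from Subtype.ext q, map_one]; exact one_mem _)
  have l2 : (l : GG) ≠ t0 := fun q => nK (by rw [show l = T0 from Subtype.ext q]; exact h.tK)
  let W : Subgroup HH :=
    { carrier := {w | Commute w l ∧ ∃ k ∈ K, g⁻¹ * (κ w * k) * g ∈ K}
      one_mem' := ⟨Commute.one_left _, 1, one_mem _, by simp⟩
      mul_mem' := by
        rintro a b ⟨a1, p, hp, a2⟩ ⟨b1, q, hq, b2⟩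
        refine ⟨a1.mul_left b1, _, mul_mem hp hq, ?_⟩
        rw [map_mul, (h.cen b p hp).mul_mul_mul_comm]
        simpa [mul_assoc] using mul_mem a2 b2
      inv_mem' := by
        rintro a ⟨a1, p, hp, a2⟩
        refine ⟨a1.inv_left, _, inv_mem hp, ?_⟩
        rw [map_inv, (h.cen a p hp).inv_inv.eq]
        simpa [mul_assoc] using inv_mem a2 }
  have cv : ∀ {x y : HH}, Commute x y ↔ Commute (x : GG) y := ⟨fun c => c.map HH.subtype, fun c => Subtype.ext c⟩
  have := (gd ix_t0 (congrArg Subtype.val ll) l1 l2 (mem_cent_iff.1 l.2)).mn (W.map HH.subtype) ⟨?_, ?_, ?_⟩ ?_ w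
    ⟨w, ⟨c, k', hk', m⟩, rfl⟩
  · have v : ∀ {x : HH}, (x : GG) = 1 ∨ (x : GG) = t0 → κ x ∈ K := fun q => by
      rcases q with q | q
      exacts [by rw [show _ = (1 : HH) from Subtype.ext q, map_one]; exact one_mem _,
        by rw [show _ = T0 from Subtype.ext q]; exact h.tK]
    have l3 : (l : GG) * l = 1 := congrArg Subtype.val ll
    rw [e, (h.cen l k' hk').symm.mul_mul_mul_comm, ← map_mul]
    rcases this with q | q | q | q
    exacts [Or.inl (mul_mem (v (Or.inl q)) hk'), Or.inl (mul_mem (v (Or.inr q)) hk'),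
      Or.inr (mul_mem (v (Or.inl (by rw [coe_mul, q, l3]))) (mul_mem hk' hk)),
      Or.inr (mul_mem (v (Or.inr (by rw [coe_mul, q, mul_assoc, l3, mul_one]))) (mul_mem hk' hk))]
  · rintro _ ⟨a, -, rfl⟩; exact mem_cent_iff.1 a.2
  · rintro _ ⟨a, ha, rfl⟩; exact cv.1 ha.1
  · rintro c c1 c2 _ ⟨a, ⟨a1, p, hp, a2⟩, rfl⟩
    lift c to HH using mem_cent_iff.2 c1
    replace c2 := cv.2 c2
    refine ⟨c * a * c⁻¹, ⟨(c2.mul_left a1).mul_left c2.inv_left, p, hp, ?_⟩, rfl⟩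
    rw [map_mul, map_mul, map_inv, (h.cen c p hp).inv_left.right_comm]
    simpa [mul_assoc] using h.nrm ((h.cs hk e).2 c2) a2
  rintro _ ⟨a, ⟨-, p, hp, a2⟩, rfl⟩ aa
  change V4 t0 l a
  by_cases a0 : (a : GG) = 1
  · exact Or.inl a0
  by_cases a1 : (a : GG) = t0
  · exact Or.inr (Or.inl a1)
  have aa' : a * a = 1 := Subtype.ext aa
  have s2 : κ a * p * (κ a * p) = p * p := by rw [h.sq hp, aa', map_one, one_mul]
  obtain ⟨n, hn⟩ := h.odd ng' (mul_mem hp hp) (by simpa [← s2, mul_assoc] using mul_mem a2 a2)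
  have u1 : (κ a * p) ^ (2 * n + 1) = κ a * p ^ (2 * n + 1) := by
    rw [(h.cen a p hp).mul_pow, ← map_pow, pow_succ a, pow_mul, pow_two, aa', one_pow, one_mul]
  have uK : g⁻¹ * (κ a * p) ^ (2 * n + 1) * g⁻¹⁻¹ ∈ K := by rw [← conj_pow, inv_inv]; exact pow_mem a2 _
  have := (gd ix_t0 aa a0 a1 (mem_cent_iff.1 a.2)).zc l (congrArg Subtype.val ll) fun x x1 x2 => by
    lift x to HH using mem_cent_iff.2 x1
    refine cv.1 ((h.cs hk e).1 (h.ti _ uK (fun q => ?_) ?_ _ ?_))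
    · rw [conj_eq_one_iff, u1] at q
      exact (h.inf a (eq_inv_of_mul_eq_one_left q ▸ inv_mem (pow_mem hp _))).elim (fun q => a0 (by rw [q]; rfl))
        fun q => a1 (by rw [q])
    · rw [conj_mul, ← (Commute.refl _).mul_pow, s2, ← hn, pow_orderOf_eq_one]; simp
    · have : Commute (κ x) ((κ a * p) ^ (2 * n + 1)) := (((cv.2 x2).map κ).mul_right (h.cen x p hp)).pow_right _
      rwa [← inv_inv g, inv_inv g⁻¹, (show Commute (g⁻¹ * κ x * g⁻¹⁻¹) (g⁻¹ * _ * g⁻¹⁻¹) from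
        this.map (MulAut.conj g⁻¹)).eq, mul_inv_cancel_right]
  rcases this with q | q | q | q
  exacts [absurd q l1, absurd q l2, Or.inr (Or.inr (Or.inl q.symm)),
    Or.inr (Or.inr (Or.inr (by rw [q, ← mul_assoc, t0_sq, one_mul]; rfl)))]

theorem back {l' : HH} {k' : G} (hk' : k' ∈ K) (e' : g⁻¹ * κ T0 * g⁻¹⁻¹ = κ l' * k') :
    l' * l' = 1 ∧ (k' = 1 ∨ k' = κ T0) := by
  have sc := h.sq_cases hk' (by rw [← e', conj_mul, tt]; simp)
  suffices k' = 1 ∨ k' = κ T0 from ⟨(sc.resolve_right fun q => h.t1 (by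
    rcases this with rfl | rfl; exacts [q.symm.trans (one_mul _), q.symm.trans tt])).1, this⟩
  refine or_iff_not_imp_left.2 fun k1 => ?_
  have ck := (h.cen T0 _ hk').symm
  have k4 : k' ^ 4 = 1 := by
    rw [show 4 = 2 * 2 from rfl, pow_mul, pow_two k']
    rcases sc with q | q
    exacts [by rw [q.2, one_pow], by rw [q, pow_two, tt]]
  obtain ⟨w, p, hp, f⟩ := h.dec (g⁻¹⁻¹ * k' * g⁻¹) (comm_conj.2 (e' ▸ (h.cen _ _ hk').symm.mul_right rfl))
  rw [inv_inv] at f
  have c : Commute (g⁻¹ * κ w * g) k' := comm_conj.2 (f ▸ (Commute.refl _).mul_right (h.cen w p hp))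
  rcases h.small ng hk e ll hp (by simpa [← f, mul_assoc] using hk') ((h.cs hk e).1 (sc.elim
    (fun q => h.ti _ hk' k1 q.2 _ (by rwa [c.eq, mul_inv_cancel_right])) fun q => q ▸ c.mul_right c)) with q | q
  · exact absurd (eq_one_of_odd (h.odd ng hk' (f ▸ q)) k4) k1
  · rw [← f, conj_mul] at q
    exact mul_right_cancel ((eq_one_of_odd (h.odd ng (mul_mem hk' h.tK) q) (by
      rw [ck.mul_pow, k4, show 4 = 2 * 2 from rfl, pow_mul, pow_two (κ T0), tt, one_pow, one_mul])).trans tt.symm)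

omit ng hk e ll in
theorem red (zs : ∃ g : G, g * κ T0 * g⁻¹ ≠ κ T0 ∧ Commute (g * κ T0 * g⁻¹) (κ T0))
    (bal : centralizerPPrimeCore 2 (κ T0) = ⊥) {y : G} (hy : y ∈ K) : y = 1 ∨ y = κ T0 := by
  obtain ⟨g, ng, l, k, hk, e, ll⟩ := h.exists_inv zs
  have ct : ∀ (x : HH) {k y : G}, k = 1 ∨ k = κ T0 → y ∈ K → Commute y (κ x * k) := fun x k y q hy =>
    (h.cen x y hy).symm.mul_right (by rcases q with rfl | rfl; exacts [Commute.one_right _, (h.cen _ y hy).symm])
  obtain ⟨l', k', hk', e'⟩ := h.dec (g⁻¹ * κ T0 * g) (comm_conj.2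
    (e ▸ ((comm_T0 l).map κ).symm.mul_right (h.cen _ k hk)))
  obtain ⟨a1, a2⟩ := h.back ng hk e ll hk' (by rw [inv_inv, e'])
  obtain ⟨-, a3⟩ := h.back (g := g⁻¹) (fun e => ng (Commute.inv_left_iff.1 e)) hk' (by rw [inv_inv, e']) a1 hk
    (by rw [inv_inv, e])
  have key : ∀ y ∈ K, g * y * g⁻¹ ∈ K ∨ g * (y * κ T0) * g⁻¹ ∈ K := fun y hy => by
    obtain ⟨w, p, hp, f⟩ := h.dec (g⁻¹⁻¹ * y * g⁻¹) (comm_conj.2 (by rw [inv_inv, e']; exact ct _ a2 hy))
    rw [inv_inv] at f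
    rw [← conj_mul, f]
    refine h.small ng hk e ll hp (by simpa [← f, mul_assoc] using hy) ((h.cs hk e).1 (comm_conj.2 ?_))
    have : Commute (κ w * p) (g * κ T0 * g⁻¹) := f ▸ (h.cen _ y hy).symm.map (MulAut.conj g)
    simpa using this.mul_left (e ▸ ct l a3 hp : Commute p (g * κ T0 * g⁻¹)).inv_left
  let Y := K ⊓ K.comap (MulAut.conj g).toMonoidHom
  have le : Y ≤ centralizer {κ T0} := fun y hy => mem_centralizer_singleton_iff.2 (h.cen _ y hy.1).symm
  have eY : Y ≤ ⊥ := by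
    rw [← bal, ← map_subgroupOf_eq_of_le le]
    refine map_mono (le_sSup ⟨⟨fun y hy c => ?_⟩, by
      rw [Nat.card_congr (subgroupOfEquivOfLe le).toEquiv]; exact Nat.coprime_two_right.2 (h.odd_card ng)⟩)
    have m := h.nrm (mem_centralizer_singleton_iff.1 c.2) hy.1
    refine ⟨m, (key _ m).resolve_right fun q => ng (h.ti _ h.tK h.t1 tt g ?_)⟩
    obtain ⟨n, hn⟩ := h.odd ng hy.1 hy.2
    have := pow_mem q (2 * n + 1)
    rwa [conj_pow, (h.cen _ _ m).symm.mul_pow, conj_pow, ← hn, pow_orderOf_eq_one, hn, pow_succ, pow_mul, pow_two, tt,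
      mul_one, mul_inv_cancel, one_pow, one_mul, one_mul] at this
  exact (key y hy).imp (fun q => eY ⟨hy, q⟩) fun q =>
    mul_right_cancel ((mem_bot.1 (eY ⟨mul_mem hy h.tK, q⟩)).trans tt.symm)

end Sd

theorem exists_comm_conj [Finite G] [IsSimpleGroup G] (hG : ¬ IsMulCommutative G) {t : G} (ht : orderOf t = 2) :
    ∃ g : G, g * t * g⁻¹ ≠ t ∧ Commute (g * t * g⁻¹) t := by
  by_contra! h
  obtain ⟨N, hN, odd, hc⟩ := H41.Isolated.zstar_exists (z := t) ⟨ht, fun g c => by_contra fun n => h g n (Commute.symm c)⟩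
  rcases hN.eq_bot_or_eq_top with rfl | rfl
  · have : center G = ⊤ := (inferInstance : (center G).Normal).eq_bot_or_eq_top.resolve_left fun e => by
      have : t ∈ center G := mem_center_iff.2 fun g => by
        have := mem_bot.1 (hc g)
        rw [mul_inv_eq_one, mul_inv_eq_iff_eq_mul] at this
        exact this.symm
      rw [e, mem_bot] at this
      rw [this, orderOf_one] at ht; omega
    exact hG ⟨⟨fun a b => mem_center_iff.1 (this.ge (mem_top b)) a⟩⟩
  · rw [card_top] at odd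
    exact (Nat.not_even_iff_odd.2 odd) (even_iff_two_dvd.2 (ht ▸ orderOf_dvd_natCard t))

theorem exists_sd [Finite G] {L : Subgroup G} (hL : IsStandardSubgroup L) (e : HH ≃* L) :
    Sd (L.subtype.comp e.toMonoidHom) (centralizer (L : Set G)) := by
  obtain ⟨-, ht, -, hn⟩ := hL
  have inj : Function.Injective (L.subtype.comp e.toMonoidHom) := L.subtype_injective.comp e.injective
  have tK : (e T0 : G) ∈ centralizer (L : Set G) := fun l hl => by
    obtain ⟨x, f⟩ := e.surjective ⟨l, hl⟩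
    rw [show l = e x from (congrArg Subtype.val f).symm]
    exact (comm_T0 x).map (L.subtype.comp e.toMonoidHom)
  have nt : ∀ u ∈ centralizer (L : Set G), u ≠ 1 → u * u = 1 → ∀ g, g * u * g⁻¹ ∈ centralizer (L : Set G) →
      ∃ x, ∃ k ∈ centralizer (L : Set G), g = e x * k := fun u hu u1 uu g hg => by
    have : g ∈ normalizer (L : Set G) := hn ▸ by_contra fun n => (Nat.not_even_iff_odd.2 (ht.2 g n))
      (even_iff_two_dvd.2 (((MulAut.conj g).orderOf_eq u).trans (orderOf_eq_two_of uu u1) ▸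
        Subgroup.orderOf_dvd_natCard _ (show g * u * g⁻¹ ∈ _ from ⟨hg, u, hu, rfl⟩)))
    obtain ⟨x, hx⟩ := inner_HH (e.trans ((normalizerMonoidHom L ⟨g, this⟩).trans e.symm))
    refine ⟨x, (e x : G)⁻¹ * g, fun l hl => ?_, by group⟩
    obtain ⟨y, f⟩ := e.surjective ⟨l, hl⟩
    have : g * e y * g⁻¹ = e x * e y * (e x : G)⁻¹ := by
      have := congrArg (fun z => (e z : G)) (hx y)
      simpa using this
    rw [show l = e y from (congrArg Subtype.val f).symm]
    calc _ = (e x : G)⁻¹ * (e x * e y * (e x : G)⁻¹) * g := by group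
      _ = _ := by rw [← this]; group
  refine ⟨inj, fun x k hk => hk _ (e x).2, tK, fun x hx => ?_, fun g hg => nt _ tK
    (fun q => ix_t0.ne_one (congrArg Subtype.val ((map_eq_one_iff _ inj).1 q)))
    (Sd.tt (κ := L.subtype.comp e.toMonoidHom)) g (by
      rwa [show g * e T0 = e T0 * g from hg, mul_inv_cancel_right]), fun u hu u1 uu g hg => ?_⟩
  · have : x ∈ center HH := mem_center_iff.2 fun y => inj (by rw [map_mul, map_mul]; exact hx _ (e y).2)
    rw [center_HH, mem_subgroupOf, mem_zpowers_iff_of_sq t0_sq] at this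
    exact this.imp Subtype.ext Subtype.ext
  · obtain ⟨x, k, hk, rfl⟩ := nt u hu u1 uu g hg
    exact Commute.mul_left (tK _ (e x).2) (Commute.symm (hk _ (e T0).2))

theorem main [Finite G] [IsSimpleGroup G] (hG : ¬ IsMulCommutative G)
    (hbal : ∀ t : G, orderOf t = 2 → centralizerPPrimeCore 2 t = ⊥) {L : Subgroup G} (hL : IsStandardSubgroup L)
    (h2 : Nat.card (center L) = 2) (e : L ⧸ center L ≃* Spor.BabyMonster) : Spor.IsoM G := by
  classical
  obtain ⟨f⟩ := cover_HH hL.1.1.commutator_eq_top h2 e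
  have h := exists_sd hL f
  generalize L.subtype.comp f.toMonoidHom = κ at h
  have t2 := orderOf_eq_two_of (Sd.tt (κ := κ)) h.t1
  have zs := exists_comm_conj hG t2
  let κ' : GG → G := fun x => if m : x ∈ HH then κ ⟨x, m⟩ else 1
  have k : ∀ x : HH, κ' x = κ x := fun x => dif_pos x.2
  have E : Emb t0 κ' := ⟨fun x y hx hy => by
    lift x to HH using mem_cent_iff.2 hx
    lift y to HH using mem_cent_iff.2 hy
    rw [← coe_mul, k, k, k, map_mul], fun x y hx hy q => by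
    lift x to HH using mem_cent_iff.2 hx
    lift y to HH using mem_cent_iff.2 hy
    exact congrArg Subtype.val (h.inj (by rwa [k, k] at q)), fun g hg => by
    obtain ⟨x, y, hy, rfl⟩ := h.dec g (k T0 ▸ hg)
    rcases h.red zs (hbal _ t2) hy with rfl | rfl
    exacts [⟨x, mem_cent_iff.1 x.2, by rw [k, mul_one]⟩, ⟨_, mem_cent_iff.1 (x * T0).2, by rw [k, map_mul]⟩]⟩
  obtain ⟨φ, i, c⟩ := E.lift (k T0 ▸ zs)
  obtain ⟨m⟩ := H95.Gr.iso
  exact ⟨(m.trans (MulEquiv.ofBijective φ ⟨i, MonoidHom.range_eq_top.1 (range_top i c)⟩)).symm⟩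

theorem eqns_Red : True := by
  have := @T0.eq_1
  trivial

end H7.SM
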